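import Cfsg.Agent.H98.UThree.PlaneMax
import Cfsg.Agent.Unitary.GUCenter

/-!
Monomial and block elements of `SU₃`, and homologies.
-/

set_option autoImplicit false
set_option linter.style.haveILetI false
set_option linter.unusedSectionVars false

namespace Cfsg.Agent.H98.UThree

open scoped MatrixGroups Matrix
open Matrix Cfsg Cfsg.Agent.Unitary

variable {F : Type*} [Field F]

/-- Every column has a single non-zero entry. -/
def Mono (g : Matrix (Fin 3) (Fin 3) F) : Prop := ∀ j, ∃ i, ∀ k, k ≠ i → g k j = 0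

/-- The vector is on no coordinate axis. -/
def Bad (p : Fin 3 → F) : Prop := ∀ i, ∃ k, k ≠ i ∧ p k ≠ 0

lemma exists_bad {g : Matrix (Fin 3) (Fin 3) F} (h : ¬ Mono g) : ∃ j, Bad (fun k => g k j) := by
  simp only [Mono, not_forall, not_exists] at h
  obtain ⟨j, hj⟩ := h
  exact ⟨j, fun i => by obtain ⟨k, hk, hk'⟩ := hj i; exact ⟨k, hk, hk'⟩⟩

lemma Bad.not_mono {g : Matrix (Fin 3) (Fin 3) F} {j : Fin 3} (h : Bad (fun k => g k j)) :
    ¬ Mono g := fun hm => by
  obtain ⟨i, hi⟩ := hm j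
  obtain ⟨k, hk, hk'⟩ := h i
  exact hk' (hi k hk)

lemma mono_diagonal (d : Fin 3 → F) : Mono (diagonal d) := fun j =>
  ⟨j, fun _ hk => diagonal_apply_ne _ hk⟩

/-- The block matrix with blocks `l` and `h`. -/
def blkM : F × Matrix (Fin 2) (Fin 2) F →* Matrix (Fin 3) (Fin 3) F where
  toFun p := !![p.1, 0, 0; 0, p.2 0 0, p.2 0 1; 0, p.2 1 0, p.2 1 1]
  map_one' := by
    ext i j
    fin_cases i <;> fin_cases j <;> simp
  map_mul' p r := by
    ext i j
    fin_cases i <;> fin_cases j <;>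
      simp [Matrix.mul_apply, Fin.sum_univ_three, Fin.sum_univ_two]

/-- The block embedding of `Fˣ × GL₂` in `GL₃`. -/
def blk : Fˣ × GL (Fin 2) F →* GL (Fin 3) F :=
  (Units.map blkM).comp MulEquiv.prodUnits.symm.toMonoidHom

lemma blk_val (l : Fˣ) (h : GL (Fin 2) F) :
    ((blk (l, h) : GL (Fin 3) F) : Matrix (Fin 3) (Fin 3) F) =
      !![(l : F), 0, 0; 0, (h : Matrix (Fin 2) (Fin 2) F) 0 0, (h : Matrix (Fin 2) (Fin 2) F) 0 1;
        0, (h : Matrix (Fin 2) (Fin 2) F) 1 0, (h : Matrix (Fin 2) (Fin 2) F) 1 1] := rfl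

lemma blk_det (l : Fˣ) (h : GL (Fin 2) F) :
    ((blk (l, h) : GL (Fin 3) F) : Matrix (Fin 3) (Fin 3) F).det
      = l * (h : Matrix (Fin 2) (Fin 2) F).det := by
  rw [blk_val, det_fin_three, det_fin_two]
  simp
  ring

/-- The restriction of a group to the plane orthogonal to the first basis vector. -/
def res (M : Subgroup (GL (Fin 3) F)) : Subgroup (GL (Fin 2) F) :=
  (M.comap blk).map (MonoidHom.snd _ _)

lemma mem_res {M : Subgroup (GL (Fin 3) F)} {h : GL (Fin 2) F} :
    h ∈ res M ↔ ∃ l : Fˣ, blk (l, h) ∈ M := by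
  simp [res, Subgroup.mem_map]

variable [Fintype F] {q : ℕ}

lemma herm3 (u v : Fin 3 → F) :
    hermForm 3 F q u v = u 0 * v 0 ^ q + u 1 * v 1 ^ q + u 2 * v 2 ^ q := by
  simp [hermForm, Fin.sum_univ_three]

lemma blk_mem_gu_iff (hF : Fintype.card F = q ^ 2) (l : Fˣ) (h : GL (Fin 2) F) :
    blk (l, h) ∈ GU 3 F q ↔ ((l : F) * (l : F) ^ q = 1 ∧ h ∈ GU 2 F q) := by
  have h0 : (0 : F) ^ q = 0 := zero_pow (q_ne_zero hF)
  rw [mem_GU_iff, mem_GU_iff, preserves_iff_transpose_mul hF, preserves_iff_transpose_mul hF,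
    blk_val]
  constructor
  · intro H
    refine ⟨?_, ?_⟩
    · have := congrFun (congrFun H 0) 0
      simpa [Matrix.mul_apply, Fin.sum_univ_three, h0] using this
    · ext i j
      have := congrFun (congrFun H i.succ) j.succ
      fin_cases i <;> fin_cases j <;>
        simpa [Matrix.mul_apply, Fin.sum_univ_three, Fin.sum_univ_two, h0] using this
  · rintro ⟨hl, H⟩
    have e00 := congrFun (congrFun H 0) 0
    have e01 := congrFun (congrFun H 0) 1
    have e10 := congrFun (congrFun H 1) 0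
    have e11 := congrFun (congrFun H 1) 1
    simp [Matrix.mul_apply, Fin.sum_univ_two] at e00 e01 e10 e11
    ext i j
    fin_cases i <;> fin_cases j <;>
      simp [Matrix.mul_apply, Fin.sum_univ_three, h0, hl, e00, e01, e10, e11]

lemma exists_blk (hF : Fintype.card F = q ^ 2) {g : GL (Fin 3) F} (hg : g ∈ GU 3 F q)
    (h1 : (g : Matrix (Fin 3) (Fin 3) F) 1 0 = 0) (h2 : (g : Matrix (Fin 3) (Fin 3) F) 2 0 = 0) :
    ∃ (l : Fˣ) (h : GL (Fin 2) F), blk (l, h) = g := by
  set G := (g : Matrix (Fin 3) (Fin 3) F) with hG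
  have hne : ∀ j : Fin 3, j ≠ 0 → G 0 j = 0 := by
    intro j hj
    have h := gu_cols hF hg 0 j
    simp only [Fin.sum_univ_three, ← hG, h1, h2, zero_mul, add_zero, if_neg (Ne.symm hj)] at h
    have h00 : G 0 0 ≠ 0 := by
      intro h0
      have h := gu_cols hF hg 0 0
      simp [Fin.sum_univ_three, ← hG, h0, h1, h2] at h
    exact (pow_eq_zero_iff'.1 ((mul_eq_zero.1 h).resolve_left h00)).1
  set H : Matrix (Fin 2) (Fin 2) F := !![G 1 1, G 1 2; G 2 1, G 2 2] with hH
  have hd : G.det = G 0 0 * H.det := by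
    rw [det_fin_three, det_fin_two, hne 1 (by decide), hne 2 (by decide), h1, h2, hH]
    simp
    ring
  have hdet : G.det ≠ 0 := by
    have := (mem_GU_iff.1 hg).det_norm hF
    exact left_ne_zero_of_mul_eq_one this
  rw [hd] at hdet
  refine ⟨Units.mk0 _ (left_ne_zero_of_mul hdet),
    Matrix.GeneralLinearGroup.mkOfDetNeZero H (right_ne_zero_of_mul hdet), Units.ext ?_⟩
  rw [blk_val]
  ext i j
  fin_cases i <;> fin_cases j <;>
    simp [Matrix.GeneralLinearGroup.mkOfDetNeZero, Matrix.GeneralLinearGroup.mk']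
  all_goals first
    | rfl
    | exact h1.symm
    | exact h2.symm
    | exact (hne _ (by decide)).symm

/-- The group `SU₃(q)` inside `GL₃`. -/
abbrev G3 (F : Type*) [Field F] (q : ℕ) : Subgroup (GL (Fin 3) F) :=
  Cfsg.GU 3 F q ⊓ Cfsg.Geo.specialLinear (Fin 3) F

lemma mem_sl3 {g : GL (Fin 3) F} :
    g ∈ Geo.specialLinear (Fin 3) F ↔ (g : Matrix (Fin 3) (Fin 3) F).det = 1 := by
  rw [Geo.specialLinear, MonoidHom.mem_ker, Units.ext_iff]
  rfl

lemma mem_G3_of_preserves (hF : Fintype.card F = q ^ 2) {M : Matrix (Fin 3) (Fin 3) F}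
    (hM : Preserves q M) (hd : M.det = 1) :
    ∃ g ∈ G3 F q, (g : Matrix (Fin 3) (Fin 3) F) = M :=
  ⟨_, ⟨(toGU hF hM).2, mem_sl3.2 (by rw [coe_toGU, hd])⟩, coe_toGU hF hM⟩

lemma exists_diag3 (hF : Fintype.card F = q ^ 2) {a b c : F} (ha : a * a ^ q = 1)
    (hb : b * b ^ q = 1) (hc : c * c ^ q = 1) (habc : a * b * c = 1) :
    ∃ g ∈ G3 F q, (g : Matrix (Fin 3) (Fin 3) F) = diagonal ![a, b, c] :=
  mem_G3_of_preserves hF (preserves_diagonal fun i => by fin_cases i <;> assumption)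
    (by rw [det_diagonal, Fin.prod_univ_three]; exact habc)

/-- A transposition of coordinates, negated. -/
lemma exists_swap (hF : Fintype.card F = q ^ 2) {i j : Fin 3} (hij : i ≠ j) :
    ∃ g ∈ G3 F q, Mono (g : Matrix (Fin 3) (Fin 3) F) ∧
      (∀ (x : Matrix (Fin 3) (Fin 3) F) (k l : Fin 3),
        (x * (g : Matrix (Fin 3) (Fin 3) F)) k l = - x k (Equiv.swap i j l)) ∧
      ∀ (x : Matrix (Fin 3) (Fin 3) F) (k l : Fin 3),
        ((g : Matrix (Fin 3) (Fin 3) F) * x) k l = - x (Equiv.swap i j k) l := by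
  set P : Matrix (Fin 3) (Fin 3) F := (1 : Matrix (Fin 3) (Fin 3) F).submatrix (Equiv.swap i j) id
  have hP : Preserves q (-P) := by
    intro u v
    rw [neg_mulVec, neg_mulVec, herm_neg_left, herm_neg_right hF, neg_neg]
    exact preserves_perm (q := q) (Equiv.swap i j) u v
  obtain ⟨g, hg, hge⟩ := mem_G3_of_preserves hF hP (by
    rw [det_neg, det_permute, Equiv.Perm.sign_swap hij, det_one]
    simp [Fintype.card_fin, pow_succ])
  refine ⟨g, hg, fun l => ⟨Equiv.swap i j l, fun k hk => ?_⟩, fun x k l => ?_, fun x k l => ?_⟩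
  · rw [hge]
    simp only [Matrix.neg_apply, P, submatrix_apply, neg_eq_zero]
    exact one_apply_ne fun h => hk (by
      rw [show l = Equiv.swap i j k from h.symm, Equiv.swap_apply_self])
  · rw [hge, Matrix.mul_neg, Matrix.neg_apply]
    congr 1
    rw [Matrix.mul_apply, Finset.sum_eq_single (Equiv.swap i j l)]
    · have h1 : P (Equiv.swap i j l) l = 1 := by
        show (1 : Matrix (Fin 3) (Fin 3) F) (Equiv.swap i j (Equiv.swap i j l)) l = 1
        rw [Equiv.swap_apply_self, one_apply_eq]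
      rw [h1, mul_one]
    · intro m _ hm
      simp only [P, submatrix_apply]
      rw [one_apply_ne fun h => hm (by
        rw [show l = Equiv.swap i j m from h.symm, Equiv.swap_apply_self]), mul_zero]
    · simp
  · rw [hge, Matrix.neg_mul, Matrix.neg_apply]
    congr 1
    simp [P, Matrix.mul_apply, one_apply]

/-- The conjugate of a homology. -/
lemma homology_mulVec (hF : Fintype.card F = q ^ 2) {g d : GL (Fin 3) F} (hg : g ∈ GU 3 F q)
    {x y : F} (hd : (d : Matrix (Fin 3) (Fin 3) F) = diagonal ![x, y, y]) (v : Fin 3 → F) :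
    ((g * d * g⁻¹ : GL (Fin 3) F) : Matrix (Fin 3) (Fin 3) F) *ᵥ v =
      y • v + ((x - y) * hermForm 3 F q v (fun k => (g : Matrix (Fin 3) (Fin 3) F) k 0)) •
        (fun k => (g : Matrix (Fin 3) (Fin 3) F) k 0) := by
  set G := (g : Matrix (Fin 3) (Fin 3) F)
  set w := ((g⁻¹ : GL (Fin 3) F) : Matrix (Fin 3) (Fin 3) F) *ᵥ v
  have hv : v = G *ᵥ w := by
    rw [mulVec_mulVec, ← Units.val_mul, mul_inv_cancel, Units.val_one, one_mulVec]
  have hw0 : hermForm 3 F q v (fun k => G k 0) = w 0 := by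
    have hcol : (fun k => G k 0) = G *ᵥ Pi.single 0 1 := by
      funext k
      simp
    rw [hcol, hv, mem_GU_iff.1 hg, herm_single_right hF, one_pow, mul_one]
  rw [hw0, Units.val_mul, Units.val_mul, ← mulVec_mulVec, ← mulVec_mulVec, hd]
  change G *ᵥ (diagonal ![x, y, y] *ᵥ w) = _
  clear_value w G
  subst hv
  funext k
  simp only [Pi.add_apply, Pi.smul_apply, smul_eq_mul, mulVec, dotProduct, Fin.sum_univ_three,
    diagonal_apply]
  simp
  ring

/-- A norm-one element of order `q + 1`. -/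
lemma exists_gen (hF : Fintype.card F = q ^ 2) :
    ∃ a : F, a * a ^ q = 1 ∧ ∀ n : ℕ, a ^ n = 1 ↔ (q + 1) ∣ n := by
  obtain ⟨u, hu⟩ := IsCyclic.exists_ofOrder_eq_natCard
    (α := (powMonoidHom (q + 1) : Fˣ →* Fˣ).ker)
  rw [card_ker_pow hF] at hu
  refine ⟨((u : Fˣ) : F), ?_, fun n => ?_⟩
  · have := congrArg Units.val (MonoidHom.mem_ker.1 u.2)
    simpa [pow_succ'] using this
  · conv_rhs => rw [← hu, orderOf_dvd_iff_pow_eq_one]
    simp [Subtype.ext_iff, Units.ext_iff]

end Cfsg.Agent.H98.UThree
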