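import Mathlib

/-!
Double counting of fixed points: in a group in which every element outside the kernel fixes one or
two points, a point stabiliser of relative order at least four fixing two points in different
orbits is the whole group.
-/

set_option autoImplicit false
set_option linter.style.haveILetI false

namespace Cfsg.Agent.H98.UThree

open MulAction Finset

variable {G : Type*} [Group G] [Finite G] {Ω : Type*} [MulAction G Ω]

theorem eq_top_of_two_orbits (K A : Subgroup G) (a b : Ω)
    (hAa : ∀ g, g ∈ A ↔ g • a = a) (hAb : ∀ g, g • b = b ↔ g ∈ A)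
    (hK : ∀ k ∈ K, ∀ x : Ω, k • x = x) (hfix : ∀ g ∉ K, ∃ x : Ω, g • x = x)
    (htwo : ∀ g ∉ K, ∀ x y z : Ω, g • x = x → g • y = y → g • z = z → x = y ∨ x = z ∨ y = z)
    (hnb : ∀ g : G, g • a ≠ b)
    (he : 4 * Nat.card K ≤ Nat.card A ∨ (3 * Nat.card K ≤ Nat.card A ∧
      ∀ g ∉ K, g * g ∈ K → ∀ x y : Ω, g • x = x → g • y = y → x = y)) : A = ⊤ := by
  classical
  letI := Fintype.ofFinite G
  have hA : A = stabilizer G a := Subgroup.ext fun g => (hAa g).trans mem_stabilizer_iff.symm
  have hKs : ∀ x : Ω, K ≤ stabilizer G x := fun x k hk => hK k hk x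
  set k := Nat.card K with hk
  set n := Fintype.card G with hn
  have hk0 : 0 < k := Nat.card_pos
  -- the orbit of `a` and the fixers of its points
  set O : Finset Ω := (Finset.univ : Finset G).image (fun g => g • a) with hO
  let Fx : Ω → Finset G := fun x => univ.filter fun g => g • x = x ∧ g ∉ K
  have hFx : ∀ x, (Fx x).card + k = Nat.card (stabilizer G x) := by
    intro x
    have h1 : k = (univ.filter fun g : G => g ∈ K).card := by
      rw [hk, Nat.card_eq_fintype_card, Fintype.card_subtype]
    have h2 : Nat.card (stabilizer G x) = (univ.filter fun g : G => g • x = x).card := by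
      rw [Nat.card_eq_fintype_card, Fintype.card_subtype]
      exact congrArg Finset.card (Finset.filter_congr fun g _ => mem_stabilizer_iff)
    rw [h1, h2, ← Finset.card_union_of_disjoint]
    · congr 1
      ext g
      simp only [Fx, Finset.mem_union, Finset.mem_filter, Finset.mem_univ, true_and]
      exact ⟨fun h => h.elim And.left fun h => hK g h x, fun h => (em (g ∈ K)).elim Or.inr
        fun h' => Or.inl ⟨h, h'⟩⟩
    · rw [Finset.disjoint_filter]
      exact fun g _ h1 h2 => h1.2 h2
  have horb : ∀ x : Ω, ((univ : Finset G).image fun g => g • x).card * Nat.card (stabilizer G x) = n := by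
    intro x
    haveI : Finite (orbit G x) := (Set.finite_range _).to_subtype
    haveI : Fintype (orbit G x) := Fintype.ofFinite _
    haveI : Fintype (stabilizer G x) := Fintype.ofFinite _
    rw [Nat.card_eq_fintype_card, hn, ← card_orbit_mul_card_stabilizer_eq_card_group G x]
    congr 1
    rw [← Set.toFinset_card]
    congr 1
    ext y
    simp [mem_orbit_iff]
  have hcon : ∀ (h : G) (x : Ω), x = h • a → Nat.card (stabilizer G x) = Nat.card A := by
    intro h x hx
    subst hx
    rw [hA, stabilizer_smul_eq_stabilizer_map_conj]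
    exact (Nat.card_congr (Subgroup.equivMapOfInjective _ _ (MulEquiv.injective _)).toEquiv).symm
  -- a fixer of `h • a` fixes `h • b`
  have hpartner : ∀ (g h : G), g • (h • a) = h • a ↔ g • (h • b) = h • b := by
    intro g h
    have e : ∀ c : Ω, g • (h • c) = h • c ↔ (h⁻¹ * g * h) • c = c := fun c => by
      rw [mul_smul, mul_smul, inv_smul_eq_iff]
    rw [e, e, hAb, ← hAa]
  have hne : ∀ h h' : G, h • a ≠ h' • b := fun h h' he => hnb (h'⁻¹ * h) (by
    rw [mul_smul, he, inv_smul_smul])
  set m := O.card with hm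
  have hme : m * Nat.card A = n := by rw [hm, hO, hA]; exact horb a
  -- fixers of distinct points of the orbit are disjoint
  have hdis : (O : Set Ω).PairwiseDisjoint Fx := by
    intro x hx y hy hxy
    rw [Function.onFun, Finset.disjoint_filter]
    rintro g - ⟨h1, h3⟩ ⟨h2, -⟩
    simp only [hO, Finset.coe_image, Finset.coe_univ, Set.image_univ, Set.mem_range] at hx hy
    obtain ⟨h, rfl⟩ := hx
    obtain ⟨h', rfl⟩ := hy
    rcases htwo g h3 _ _ _ h1 h2 ((hpartner g h).1 h1) with e | e | e
    · exact hxy e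
    · exact hne _ _ e
    · exact hne _ _ e
  set S := O.biUnion Fx with hS
  have hScard : S.card + m * k = n := by
    rw [hS, Finset.card_biUnion hdis, ← hme, hm, ← smul_eq_mul, ← Finset.sum_const,
      ← Finset.sum_add_distrib, ← smul_eq_mul, ← Finset.sum_const]
    refine Finset.sum_congr rfl fun x hx => ?_
    obtain ⟨h, -, rfl⟩ := Finset.mem_image.1 hx
    rw [hFx, hcon h _ rfl]
  by_cases hm1 : m = 1
  · rw [hm1, one_mul, hn, ← Nat.card_eq_fintype_card] at hme
    exact Subgroup.eq_top_of_card_eq A hme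
  exfalso
  have hm2 : 2 ≤ m := by
    have : 0 < m := Finset.card_pos.2 ⟨a, Finset.mem_image.2 ⟨1, Finset.mem_univ _, one_smul _ a⟩⟩
    omega
  set R : Finset G := univ.filter fun g => g ∉ K ∧ g ∉ S with hR
  have hRcard : R.card + k + S.card = n := by
    have hd : Disjoint (univ.filter fun g : G => g ∈ K) S := by
      rw [Finset.disjoint_left]
      intro g hg hg'
      obtain ⟨x, -, hx⟩ := Finset.mem_biUnion.1 hg'
      exact (Finset.mem_filter.1 hx).2.2 (Finset.mem_filter.1 hg).2
    have hc : Rᶜ = (univ.filter fun g : G => g ∈ K) ∪ S := by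
      ext g; simp [hR]; tauto
    have h1 : k = (univ.filter fun g : G => g ∈ K).card := by
      rw [hk, Nat.card_eq_fintype_card, Fintype.card_subtype]
    have h2 := congrArg Finset.card hc
    rw [Finset.card_compl, Finset.card_union_of_disjoint hd, ← h1] at h2
    have := Finset.card_le_univ R
    omega
  obtain ⟨g₀, hg₀⟩ : R.Nonempty := Finset.card_pos.1 (by nlinarith)
  obtain ⟨hg₀K, hg₀S⟩ := (Finset.mem_filter.1 hg₀).2
  obtain ⟨x, hx⟩ := hfix g₀ hg₀K
  have hxa : ∀ h : G, x ≠ h • a := by
    rintro h rfl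
    exact hg₀S (Finset.mem_biUnion.2 ⟨_, Finset.mem_image.2 ⟨h, Finset.mem_univ _, rfl⟩,
      Finset.mem_filter.2 ⟨Finset.mem_univ _, hx, hg₀K⟩⟩)
  have hxb : ∀ h : G, x ≠ h • b := by
    rintro h rfl
    exact hg₀S (Finset.mem_biUnion.2 ⟨_, Finset.mem_image.2 ⟨h, Finset.mem_univ _, rfl⟩,
      Finset.mem_filter.2 ⟨Finset.mem_univ _, (hpartner g₀ h).2 hx, hg₀K⟩⟩)
  set X : Finset Ω := (univ : Finset G).image fun g => g • x with hX
  set f := Nat.card (stabilizer G x) with hf
  have hXf : X.card * f = n := horb x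
  have hfy : ∀ y ∈ X, (Fx y).card + k = f := by
    intro y hy
    obtain ⟨h, -, rfl⟩ := Finset.mem_image.1 hy
    rw [hFx, stabilizer_smul_eq_stabilizer_map_conj, hf]
    exact (Nat.card_congr (Subgroup.equivMapOfInjective _ _ (MulEquiv.injective _)).toEquiv).symm
  have hin : ∀ y ∈ X, Fx y ⊆ R := by
    intro y hy g hg
    obtain ⟨h', -, rfl⟩ := Finset.mem_image.1 hy
    obtain ⟨hgy, hgK⟩ := (Finset.mem_filter.1 hg).2
    refine Finset.mem_filter.2 ⟨Finset.mem_univ _, hgK, fun hgS => ?_⟩
    obtain ⟨z, hz, hgz⟩ := Finset.mem_biUnion.1 hgS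
    obtain ⟨h, -, rfl⟩ := Finset.mem_image.1 hz
    have hga := (Finset.mem_filter.1 hgz).2.1
    rcases htwo g hgK _ _ _ hgy hga ((hpartner g h).1 hga) with e | e | e
    · exact hxa (h'⁻¹ * h) (by rw [mul_smul, ← e, inv_smul_smul])
    · exact hxb (h'⁻¹ * h) (by rw [mul_smul, ← e, inv_smul_smul])
    · exact hne _ _ e
  have hcount : ∀ c : ℕ, (∀ g ∈ R, (∃ y ∈ X, g ∈ Fx y) → (X.filter fun y => g ∈ Fx y).card ≤ c) →
      X.card * (f - k) ≤ c * R.card := by
    intro c hc
    have h1 : ∑ y ∈ X, (R.filter fun g => g ∈ Fx y).card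
        = ∑ g ∈ R, (X.filter fun y => g ∈ Fx y).card := by
      simp only [Finset.card_filter]
      exact Finset.sum_comm
    have h2 : ∑ y ∈ X, (R.filter fun g => g ∈ Fx y).card = X.card * (f - k) := by
      rw [Finset.sum_congr rfl (fun y hy => ?_), Finset.sum_const, smul_eq_mul]
      rw [Finset.filter_mem_eq_inter, Finset.inter_eq_right.2 (hin y hy)]
      have := hfy y hy
      omega
    rw [← h2, h1, mul_comm c, ← smul_eq_mul, ← Finset.sum_const]
    refine Finset.sum_le_sum fun g hg => ?_
    by_cases h : ∃ y ∈ X, g ∈ Fx y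
    · exact hc g hg h
    · rw [Finset.filter_eq_empty_iff.2 fun y hy hgy => h ⟨y, hy, hgy⟩]
      simp
  have htwo' : X.card * (f - k) ≤ 2 * R.card := by
    refine hcount 2 fun g hg _ => ?_
    by_contra hlt
    obtain ⟨u, v, w, hu, hv, hw, huv, huw, hvw⟩ := Finset.two_lt_card_iff.1 (not_le.1 hlt)
    simp only [Fx, Finset.mem_filter, Finset.mem_univ, true_and] at hu hv hw
    rcases htwo g (Finset.mem_filter.1 hg).2.1 u v w hu.2.1 hv.2.1 hw.2.1 with e | e | e
    exacts [huv e, huw e, hvw e]
  obtain ⟨j, hj⟩ : k ∣ f := Subgroup.card_dvd_of_le (hKs x)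
  have hj2 : 2 ≤ j := by
    by_contra hj2
    have h0 : 0 < f := Nat.card_pos
    have : j = 1 := by
      rcases Nat.eq_zero_or_pos j with rfl | h
      · omega
      · omega
    rw [this, mul_one] at hj
    have := hFx x
    rw [← hf] at this
    have h1 : (Fx x).card = 0 := by omega
    rw [Finset.card_eq_zero] at h1
    exact Finset.notMem_empty g₀ (h1 ▸ Finset.mem_filter.2 ⟨Finset.mem_univ _, hx, hg₀K⟩)
  have hRm : R.card + k = m * k := by omega
  rcases he with he | ⟨he, hinv⟩
  · have : 2 * (f - k) ≥ f := by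
      have : 2 * k ≤ f := by rw [hj, mul_comm k]; exact Nat.mul_le_mul_right k hj2
      omega
    have h3 := Nat.mul_le_mul_left X.card this
    have h4 := Nat.mul_le_mul_left m he
    nlinarith
  · rcases Nat.eq_or_lt_of_le hj2 with rfl | hj3
    · have hsq : ∀ y ∈ X, ∀ g ∈ Fx y, g * g ∈ K := by
        intro y hy g hg
        obtain ⟨hgy, -⟩ := (Finset.mem_filter.1 hg).2
        have hfk : Nat.card (stabilizer G y) = k * 2 := by
          rw [← hj, ← hFx, hfy y hy]
        have hidx : (K.subgroupOf (stabilizer G y)).index = 2 := by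
          have h1 := Subgroup.card_mul_index (K.subgroupOf (stabilizer G y))
          rw [Nat.card_congr (Subgroup.subgroupOfEquivOfLe (hKs y)).toEquiv, hfk, ← hk] at h1
          exact Nat.eq_of_mul_eq_mul_left hk0 h1
        exact Subgroup.mul_self_mem_of_index_two hidx ⟨g, hgy⟩
      have h1 : X.card * (f - k) ≤ 1 * R.card := by
        refine hcount 1 fun g hg ⟨y, hy, hgy⟩ => Finset.card_le_one.2 fun u hu v hv => ?_
        simp only [Fx, Finset.mem_filter, Finset.mem_univ, true_and] at hu hv
        exact hinv g (Finset.mem_filter.1 hg).2.1 (hsq y hy g hgy) u v hu.2.1 hv.2.1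
      have h2 : f - k = k := by omega
      rw [h2, one_mul] at h1
      nlinarith
    · have : 3 * (f - k) ≥ 2 * f := by
        have : 3 * k ≤ f := by rw [hj, mul_comm k]; exact Nat.mul_le_mul_right k hj3
        omega
      have h3 := Nat.mul_le_mul_left X.card this
      have h4 := Nat.mul_le_mul_left m he
      nlinarith

end Cfsg.Agent.H98.UThree
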