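import Cfsg.Agent.H98.UThree.Star
import Cfsg.Agent.H36.SUThreeGeo.Point
import Cfsg.Agent.Unitary.Basis

/-!
The stabiliser of an orthogonal frame is maximal in `SU₃(q)`, `q ≥ 3`, `q ≠ 5`.
-/

set_option autoImplicit false
set_option linter.style.haveILetI false
set_option linter.unusedSectionVars false
set_option maxHeartbeats 1000000

namespace Cfsg.Agent.H98.UThree

open scoped MatrixGroups Matrix
open Matrix Cfsg Cfsg.Agent.Unitary

variable {F : Type*} [Field F] [Fintype F] {q : ℕ} {M : Subgroup (GL (Fin 3) F)}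

/-- The case of a column all of whose entries have norm one. -/
lemma star_of_unit (hF : Fintype.card F = q ^ 2) (hq : 3 ≤ q) (hMG : M ≤ G3 F q)
    (hmono : ∀ g ∈ G3 F q, Mono (g : Matrix (Fin 3) (Fin 3) F) → g ∈ M)
    {a : F} (ha : a * a ^ q = 1) (ha3 : a ^ 3 ≠ 1) (ha6 : a ^ 6 ≠ 1)
    (he : (∀ i, 1 ≤ i → i ≤ 3 → ((a ^ q) ^ 2) ^ i ≠ a ^ i) ∨
      ((2 : F) = 0 ∧ ∀ i, 1 ≤ i → i ≤ 2 → ((a ^ q) ^ 2) ^ i ≠ a ^ i))
    {g : GL (Fin 3) F} (hg : g ∈ M)
    (hone : ∀ k, (g : Matrix (Fin 3) (Fin 3) F) k 0 * (g : Matrix (Fin 3) (Fin 3) F) k 0 ^ q = 1) :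
    Star M := by
  set G := (g : Matrix (Fin 3) (Fin 3) F)
  set p₀ := G 0 0 with hp0
  set p₁ := G 1 0 with hp1
  set p₂ := G 2 0 with hp2
  have h0 : p₀ * p₀ ^ q = 1 := hone 0
  have h1 : p₁ * p₁ ^ q = 1 := hone 1
  have h2 : p₂ * p₂ ^ q = 1 := hone 2
  have htwo : (2 : F) = 0 := by
    have hsum : p₀ * p₀ ^ q + p₁ * p₁ ^ q + p₂ * p₂ ^ q = 1 := by
      simpa [Fin.sum_univ_three] using gu_cols hF (hMG hg).1 0 0
    linear_combination hsum - h0 - h1 - h2
  set x := (a ^ q) ^ 2 with hx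
  have hxn : x * x ^ q = 1 := by
    rw [hx, pow_right_comm (a ^ q) 2 q, pow_q_q hF, ← mul_pow, mul_comm (a ^ q), ha, one_pow]
  have hxa : x * (a * a) = 1 := by rw [hx]; linear_combination (a * a ^ q + 1) * ha
  have hxq : x ^ q = a * a := by rw [hx, pow_right_comm (a ^ q) 2 q, pow_q_q hF, sq]
  have haq : a ^ q * (a ^ q) ^ q = 1 := by rw [pow_q_q hF, mul_comm, ha]
  obtain ⟨d, hd, hde⟩ := exists_diag3 hF hxn ha ha (by rw [mul_assoc]; exact hxa)
  obtain ⟨d', hd', hde'⟩ := exists_diag3 hF (a := a ^ 2) (b := a ^ q) (c := a ^ q)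
    (by rw [pow_right_comm a 2 q, ← mul_pow, ha, one_pow]) haq haq
    (by linear_combination (a * a ^ q + 1) * ha)
  set k := (x - a) * (a ^ 2 - a ^ q) with hk
  have hkq : k ^ q = k := by
    rw [hk, mul_pow, sub_pow_q hF, sub_pow_q hF, hxq, pow_q_q hF, pow_right_comm a 2 q, ← hx]
    ring
  have hk0 : k ≠ 0 := by
    rw [hk]
    refine mul_ne_zero (sub_ne_zero.2 fun h => ha3 (by rw [h] at hxa; linear_combination hxa))
      (sub_ne_zero.2 fun h => ha3 ?_)
    linear_combination a * h + ha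
  -- the parameter
  classical
  set U : Finset F := Finset.univ.filter fun z => z * z ^ q = 1
  have hUc : U.card = q + 1 := by
    rw [← card_norm_eq_one hF, Nat.card_eq_fintype_card, Fintype.card_subtype]
  obtain ⟨z, hzU, hz0, hz1⟩ : ∃ z ∈ U, z + z ^ q ≠ 0 ∧ k * (z + z ^ q) + 1 ≠ 0 := by
    by_contra hc
    push Not at hc
    have hroot : ∀ t : F, (U.filter fun z => z + z ^ q = t).card ≤ 2 := by
      intro t
      rcases (U.filter fun z => z + z ^ q = t).eq_empty_or_nonempty with h | ⟨u₀, hu₀⟩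
      · simp [h]
      refine (Finset.card_le_card fun u hu => ?_).trans (Finset.card_le_two (a := u₀) (b := u₀ ^ q))
      simp only [U, Finset.mem_filter, Finset.mem_univ, true_and] at hu hu₀
      have hkey : (u - u₀) * (u - u₀ ^ q) = 0 := by
        linear_combination u * (hu.2.trans hu₀.2.symm) - hu.1 + hu₀.1
      simpa [sub_eq_zero] using mul_eq_zero.1 hkey
    have hsub : U ⊆ (U.filter fun z => z + z ^ q = 0) ∪ (U.filter fun z => z + z ^ q = -k⁻¹) := by
      intro z hz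
      refine Finset.mem_union.2 ?_
      by_cases h : z + z ^ q = 0
      · exact Or.inl (Finset.mem_filter.2 ⟨hz, h⟩)
      · refine Or.inr (Finset.mem_filter.2 ⟨hz, ?_⟩)
        field_simp
        linear_combination hc z hz h
    have := (Finset.card_le_card hsub).trans (Finset.card_union_le _ _)
    have := hroot 0
    have := hroot (-k⁻¹)
    have : q ≠ 3 := by
      rintro rfl
      have h3 := natCast_q_eq_zero hF
      push_cast at h3
      exact one_ne_zero (by linear_combination h3 - htwo)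
    omega
  replace hzU : z * z ^ q = 1 := (Finset.mem_filter.1 hzU).2
  set u := z * p₂ ^ q * p₁ with hu
  have hun : u * u ^ q = 1 := by
    rw [hu, mul_pow, mul_pow, pow_q_q hF]
    linear_combination p₂ ^ q * p₂ * (p₁ * p₁ ^ q) * hzU + p₂ ^ q * p₂ * h1 + h2
  obtain ⟨e, heG, hee⟩ := exists_diag3 hF (a := 1) (b := u) (c := u ^ q) (by rw [one_pow, mul_one]) hun
    (by rw [pow_q_q hF, mul_comm, hun]) (by rw [one_mul, hun])
  obtain ⟨s, hs, hsm, -, hsl⟩ := exists_swap hF (show (1 : Fin 3) ≠ 2 by decide)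
  set m := g * d * g⁻¹
  set m' := g * d' * g⁻¹
  have hmM : m ∈ M := M.mul_mem (M.mul_mem hg (hmono d hd (hde ▸ mono_diagonal _))) (M.inv_mem hg)
  have hmM' : m' ∈ M :=
    M.mul_mem (M.mul_mem hg (hmono d' hd' (hde' ▸ mono_diagonal _))) (M.inv_mem hg)
  have hnM : e * s ∈ M := M.mul_mem (hmono e heG (hee ▸ mono_diagonal _)) (hmono s hs hsm)
  set pv : Fin 3 → F := fun l => G l 0
  set c : Fin 3 → F := fun l => (m' : Matrix (Fin 3) (Fin 3) F) l 0
  set w : Fin 3 → F := fun l => ((e * s * m' : GL (Fin 3) F) : Matrix (Fin 3) (Fin 3) F) l 0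
  set r := m * (e * s * m')
  have hrM : r ∈ M := M.mul_mem hmM (M.mul_mem hnM hmM')
  have hc : c = a ^ q • Pi.single 0 1 + ((a ^ 2 - a ^ q) * p₀ ^ q) • pv := by
    have h := homology_mulVec hF (hMG hg).1 hde' (Pi.single 0 1)
    rw [herm_single_left, one_mul] at h
    rw [← h]
    funext l
    simp [c, m']
  have hw : ∀ l, w l = - (![1, u, u ^ q] l * c (Equiv.swap 1 2 l)) := by
    intro l
    simp only [w, Units.val_mul, mul_assoc, hee, diagonal_mul, hsl]
    ring
  have hr : (fun l => (r : Matrix (Fin 3) (Fin 3) F) l 0) =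
      a • w + ((x - a) * hermForm 3 F q w pv) • pv := by
    rw [← homology_mulVec hF (hMG hg).1 hde w]
    funext l
    simp only [r, w, Units.val_mul, Matrix.mul_apply, mulVec, dotProduct]
    rfl
  have hr0 : (r : Matrix (Fin 3) (Fin 3) F) 0 0 = -(1 + k * (z + z ^ q)) := by
    have e0 := congrFun hr 0
    simp only [Pi.add_apply, Pi.smul_apply, smul_eq_mul, herm3, hw, hc, pv, ← hp0, ← hp1, ← hp2] at e0
    simp [Equiv.swap_apply_of_ne_of_ne, ← hp0, ← hp1, ← hp2] at e0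
    rw [e0, hk, hu, mul_pow, mul_pow, pow_q_q hF]
    linear_combination -(x - a) * (a ^ 2 - a ^ q) * (p₁ * p₁ ^ q * (z * (p₂ * p₂ ^ q)) + z ^ q * (p₁ * p₁ ^ q) * (p₂ * p₂ ^ q)) * h0
      - (a * (a ^ 2 - a ^ q) + (x - a) * a ^ q + (x - a) * (a ^ 2 - a ^ q) * (p₀ * p₀ ^ q + 1)) * h0
      - (x - a) * (a ^ 2 - a ^ q) * (z + z ^ q) * (p₂ * p₂ ^ q * h1 + h2)
      - hxa
  have hrn : (r : Matrix (Fin 3) (Fin 3) F) 0 0 * (r : Matrix (Fin 3) (Fin 3) F) 0 0 ^ q
      = (1 + k * (z + z ^ q)) ^ 2 := by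
    rw [hr0, neg_pow_q hF, add_pow_q hF, mul_pow, add_pow_q hF, pow_q_q hF, hkq, one_pow]
    ring
  have hrne0 : (r : Matrix (Fin 3) (Fin 3) F) 0 0 ≠ 0 := by
    rw [hr0, neg_ne_zero, add_comm]; exact hz1
  have hrne1 : (r : Matrix (Fin 3) (Fin 3) F) 0 0 * (r : Matrix (Fin 3) (Fin 3) F) 0 0 ^ q ≠ 1 := by
    rw [hrn]
    intro h
    have : (k * (z + z ^ q)) ^ 2 = 0 := by linear_combination h - k * (z + z ^ q) * htwo
    exact mul_ne_zero hk0 hz0 (pow_eq_zero_iff'.1 this).1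
  by_cases hall : ∀ l, (r : Matrix (Fin 3) (Fin 3) F) l 0 ≠ 0
  · exact star_of_norm hF hMG hmono ha ha3 ha6 he hrM hall hrne1
  push Not at hall
  obtain ⟨l, hl⟩ := hall
  refine star_of_zero' hF hMG hmono ha ha3 ha6 hrM hl fun i => ?_
  by_contra hb
  push Not at hb
  rcases eq_or_ne i 0 with rfl | hi
  · have hn := gu_cols hF (hMG hrM).1 0 0
    rw [Fin.sum_univ_three, hb 1 (by decide), hb 2 (by decide)] at hn
    exact hrne1 (by simpa using hn)
  · exact hrne0 (hb 0 (Ne.symm hi))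

/-- A non-monomial overgroup of the monomial group has a non-monomial element fixing an axis. -/
lemma exists_star (hF : Fintype.card F = q ^ 2) (hq : 3 ≤ q) (hq5 : q ≠ 5) (hMG : M ≤ G3 F q)
    (hmono : ∀ g ∈ G3 F q, Mono (g : Matrix (Fin 3) (Fin 3) F) → g ∈ M)
    (hne : ∃ g ∈ M, ¬ Mono (g : Matrix (Fin 3) (Fin 3) F)) : Star M := by
  obtain ⟨a, ha, hord⟩ := exists_gen hF
  have h3 : a ^ 3 ≠ 1 := fun h => by
    have := Nat.le_of_dvd (by norm_num) ((hord 3).1 h)
    omega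
  have h6 : a ^ 6 ≠ 1 := fun h => by
    obtain ⟨c, hc⟩ := (hord 6).1 h
    rcases c with _ | _ | c
    · omega
    · omega
    · nlinarith
  have he : (∀ i, 1 ≤ i → i ≤ 3 → ((a ^ q) ^ 2) ^ i ≠ a ^ i) ∨
      ((2 : F) = 0 ∧ ∀ i, 1 ≤ i → i ≤ 2 → ((a ^ q) ^ 2) ^ i ≠ a ^ i) := by
    have key : ∀ i : ℕ, ((a ^ q) ^ 2) ^ i = a ^ i → a ^ (3 * i) = 1 := fun i h => by
      have : ((a * a ^ q) ^ 2) ^ i = 1 := by rw [ha, one_pow, one_pow]
      rw [mul_pow, mul_pow, h] at this
      rw [← this]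
      ring
    by_cases h9 : a ^ 9 = 1
    · refine Or.inr ⟨?_, fun i h1 h2 h => ?_⟩
      · have hd := (hord 9).1 h9
        have h8 : q = 8 := by
          have := Nat.le_of_dvd (by norm_num) hd
          have : q ≤ 8 := by omega
          interval_cases q <;> first
            | rfl
            | norm_num at hd
        subst h8
        have := natCast_q_eq_zero hF
        push_cast at this
        have h2 : (2 : F) * (2 * 2) = 0 := by linear_combination this
        simpa using h2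
      · have := key i h
        interval_cases i
        · exact h3 this
        · exact h6 this
    · refine Or.inl fun i h1 h2 h => ?_
      have := key i h
      interval_cases i
      · exact h3 this
      · exact h6 this
      · exact h9 this
  obtain ⟨g, hg, hgm⟩ := hne
  obtain ⟨j, hj⟩ := exists_bad hgm
  obtain ⟨g', hg', hbad⟩ : ∃ g' ∈ M, Bad fun k => (g' : Matrix (Fin 3) (Fin 3) F) k 0 := by
    rcases eq_or_ne j 0 with rfl | hj0
    · exact ⟨g, hg, hj⟩
    obtain ⟨s, hs, hsm, hsr, -⟩ := exists_swap hF (Ne.symm hj0)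
    refine ⟨g * s, M.mul_mem hg (hmono s hs hsm), fun i => ?_⟩
    obtain ⟨k, hk1, hk2⟩ := hj i
    refine ⟨k, hk1, ?_⟩
    simp only [Units.val_mul]
    rw [hsr, Equiv.swap_apply_left, neg_ne_zero]
    exact hk2
  by_cases hz : ∀ k, (g' : Matrix (Fin 3) (Fin 3) F) k 0 ≠ 0
  swap
  · push Not at hz
    obtain ⟨i, hi⟩ := hz
    exact star_of_zero' hF hMG hmono ha h3 h6 hg' hi hbad
  by_cases hone : ∀ k, (g' : Matrix (Fin 3) (Fin 3) F) k 0 * (g' : Matrix (Fin 3) (Fin 3) F) k 0 ^ q = 1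
  · exact star_of_unit hF hq hMG hmono ha h3 h6 he hg' hone
  push Not at hone
  obtain ⟨i, hi⟩ := hone
  rcases eq_or_ne i 0 with rfl | hi0
  · exact star_of_norm hF hMG hmono ha h3 h6 he hg' hz hi
  obtain ⟨s, hs, hsm, -, hsl⟩ := exists_swap hF (Ne.symm hi0)
  refine star_of_norm hF hMG hmono ha h3 h6 he (M.mul_mem (hmono s hs hsm) hg') (fun k => ?_) ?_
  · rw [Units.val_mul, hsl, neg_ne_zero]
    exact hz _
  · rw [Units.val_mul, hsl, Equiv.swap_apply_left, neg_pow_q hF, neg_mul_neg]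
    exact hi

/-- The monomial group of `SU₃(q)` is maximal. -/
theorem std_frame_maximal (hF : Fintype.card F = q ^ 2) (hq : 3 ≤ q) (hq5 : q ≠ 5)
    (hMG : M ≤ G3 F q) (hmono : ∀ g ∈ G3 F q, Mono (g : Matrix (Fin 3) (Fin 3) F) → g ∈ M)
    (hne : ∃ g ∈ M, ¬ Mono (g : Matrix (Fin 3) (Fin 3) F)) : M = G3 F q := by
  obtain ⟨k, hkM, hk1, hk2, hknm⟩ := exists_star hF hq hq5 hMG hmono hne
  obtain ⟨l₀, h₀, hblk⟩ := exists_blk hF (hMG hkM).1 hk1 hk2
  set Y := res M
  have hYG : Y ≤ GU 2 F q := fun h hh => by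
    obtain ⟨l, hl⟩ := mem_res.1 hh
    exact ((blk_mem_gu_iff hF l h).1 (hMG hl).1).2
  have hYm : ∀ h ∈ GU 2 F q, ((h : Matrix (Fin 2) (Fin 2) F) 1 0 = 0 ∨
      (h : Matrix (Fin 2) (Fin 2) F) 0 0 = 0) → h ∈ Y := by
    intro h hh hc
    have hn := (mem_GU_iff.1 hh).det_norm hF
    set D := (h : Matrix (Fin 2) (Fin 2) F).det with hD
    have hD0 : D ≠ 0 := left_ne_zero_of_mul_eq_one hn
    refine mem_res.2 ⟨(Units.mk0 D hD0)⁻¹, hmono _ ⟨(blk_mem_gu_iff hF _ h).2 ⟨?_, hh⟩, mem_sl3.2 ?_⟩ ?_⟩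
    · rw [Units.val_inv_eq_inv_val, Units.val_mk0, inv_pow, ← mul_inv, hn, inv_one]
    · rw [blk_det, ← hD, Units.val_inv_eq_inv_val, Units.val_mk0, inv_mul_cancel₀ hD0]
    · rw [blk_val]
      rcases hc with hc | hc
      · have hb := (rel2 hF hh).c_zero_iff.1 hc
        intro j
        refine ⟨j, fun i hi => ?_⟩
        fin_cases i <;> fin_cases j <;> simp [hc, hb] at hi ⊢
      · have hd := gu_anti2 hF hh hc
        intro j
        refine ⟨Equiv.swap 1 2 j, fun i hi => ?_⟩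
        fin_cases i <;> fin_cases j <;> simp [hc, hd, Equiv.swap_apply_of_ne_of_ne] at hi ⊢
  have hge : GU 2 F q ≤ Y := by
    refine gu_le_of_monomial hF hq hYG hYm (g₀ := h₀) (mem_res.2 ⟨l₀, hblk ▸ hkM⟩) ?_ ?_
    all_goals
      intro hz
      apply hknm
      rw [← hblk, blk_val]
      have hh₀ : h₀ ∈ GU 2 F q := ((blk_mem_gu_iff hF l₀ h₀).1 (hblk ▸ (hMG hkM).1)).2
    · have hb := (rel2 hF hh₀).c_zero_iff.1 hz
      intro j
      refine ⟨j, fun i hi => ?_⟩
      fin_cases i <;> fin_cases j <;> simp [hz, hb] at hi ⊢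
    · have hd := gu_anti2 hF hh₀ hz
      intro j
      refine ⟨Equiv.swap 1 2 j, fun i hi => ?_⟩
      fin_cases i <;> fin_cases j <;> simp [hz, hd, Equiv.swap_apply_of_ne_of_ne] at hi ⊢
  -- the point stabiliser
  set W : Submodule F (Fin 3 → F) := Submodule.span F {Pi.single 0 1}
  have he0 : (Pi.single (0 : Fin 3) (1 : F) : Fin 3 → F) ≠ 0 := fun h => one_ne_zero (α := F) (by simpa using congrFun h 0)
  have hmax : Geo.IsMaximalIn (G3 F q) (Geo.subspaceStabilizer W ⊓ G3 F q) := by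
    refine H36.SUThreeGeo.nondeg_point_maximal_three q hF hq W (by simp [W, he0]) ?_ ?_
    · intro w hw hw0
      obtain ⟨c, rfl⟩ := Submodule.mem_span_singleton.1 hw
      have hc0 : c ≠ 0 := fun h => hw0 (by rw [h, zero_smul])
      refine ⟨⟨_, Submodule.mem_span_singleton_self _, ?_⟩, _, Submodule.mem_span_singleton_self _, ?_⟩
      · rw [herm_smul_right, herm_single_single hF, if_pos rfl, mul_one]
        exact pow_ne_zero _ hc0
      · rw [herm_smul_left, herm_single_single hF, if_pos rfl, mul_one]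
        exact hc0
    · rw [finrank_span_singleton he0]; norm_num
  have hle : Geo.subspaceStabilizer W ⊓ G3 F q ≤ M := by
    rintro g ⟨hgW, hgG⟩
    have hmem := (hgW (Pi.single 0 1)).1 (Submodule.mem_span_singleton_self _)
    obtain ⟨c, hc⟩ := Submodule.mem_span_singleton.1 hmem
    have hcol : ∀ i : Fin 3, i ≠ 0 → (g : Matrix (Fin 3) (Fin 3) F) i 0 = 0 := fun i hi => by
      have := congrFun hc i
      simpa [Pi.single_eq_of_ne hi, glToMat] using this.symm
    obtain ⟨l, h, rfl⟩ := exists_blk hF hgG.1 (hcol 1 (by decide)) (hcol 2 (by decide))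
    obtain ⟨l', hl'⟩ := mem_res.1 (hge ((blk_mem_gu_iff hF l h).1 hgG.1).2)
    have e1 := mem_sl3.1 hgG.2
    have e2 := mem_sl3.1 (hMG hl').2
    rw [blk_det] at e1 e2
    have : l' = l := Units.ext (mul_right_cancel₀ (right_ne_zero_of_mul_eq_one e1) (e2.trans e1.symm))
    rwa [← this]
  rcases hmax.2 M hle hMG with h | h
  · exfalso
    obtain ⟨s, hs, hsm, hsr, -⟩ := exists_swap hF (show (0 : Fin 3) ≠ 1 by decide)
    have hsW : s ∈ Geo.subspaceStabilizer W ⊓ G3 F q := h ▸ hmono s hs hsm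
    obtain ⟨c, hc⟩ := Submodule.mem_span_singleton.1
      ((hsW.1 (Pi.single 0 1)).1 (Submodule.mem_span_singleton_self _))
    have h1 := congrFun hc 1
    have h2 := hsr 1 1 0
    rw [one_mul, Equiv.swap_apply_left] at h2
    simp [Pi.single_eq_of_ne, glToMat, h2] at h1
  · exact h

/-- Clause (3): the stabiliser of an orthogonal frame is maximal, `q ≥ 3`, `q ≠ 5`. -/
theorem frame_maximal (hF : Fintype.card F = q ^ 2) (hq : 3 ≤ q) (hq5 : q ≠ 5)
    (D : Fin 3 → Submodule F (Fin 3 → F))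
    (hD : Geo.IsNondegenerateMDecomposition (hermForm 3 F q) 1 D) :
    Geo.IsMaximalIn (G3 F q) (Geo.decompositionStabilizer D ⊓ G3 F q) := by
  classical
  have hbasis : ∀ i, ∃ b : Fin 3 → F, hermForm 3 F q b b = 1 ∧ D i = Submodule.span F {b} := by
    intro i
    have hnd : Nondeg q (D i) := fun u hu h => by
      by_contra hu0
      obtain ⟨x, hx, hux⟩ := (hD.nondegenerate i u hu hu0).2
      exact hux (h x hx)
    obtain ⟨b, hbD, hb⟩ := exists_norm_one hF hnd (fun h => by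
      have := hD.decomp.finrank_eq i
      rw [h, finrank_bot] at this
      omega)
    have hb0 : b ≠ 0 := by rintro rfl; simp at hb
    refine ⟨b, hb, (Submodule.eq_of_le_of_finrank_eq ?_ ?_).symm⟩
    · rwa [Submodule.span_le, Set.singleton_subset_iff]
    · rw [finrank_span_singleton hb0, hD.decomp.finrank_eq]
  choose b hb hbs using hbasis
  have hbD : ∀ i, b i ∈ D i := fun i => by rw [hbs]; exact Submodule.mem_span_singleton_self _
  have hON : ON q b := fun i j => by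
    rcases eq_or_ne i j with rfl | hij
    · rw [if_pos rfl, hb]
    · rw [if_neg hij, hD.orthogonal i j hij _ (hbD i) _ (hbD j)]
  obtain ⟨⟨P, hP⟩, hPe⟩ := exists_GU_of_ON hF hON
  simp only at hPe
  have hconj : ∀ g, g ∈ G3 F q → P * g * P⁻¹ ∈ G3 F q ∧ P⁻¹ * g * P ∈ G3 F q := by
    rintro g ⟨hg1, hg2⟩
    have h1 : Matrix.GeneralLinearGroup.det g = 1 := hg2
    refine ⟨⟨Subgroup.mul_mem _ (Subgroup.mul_mem _ hP hg1) (Subgroup.inv_mem _ hP), ?_⟩,
      ⟨Subgroup.mul_mem _ (Subgroup.mul_mem _ (Subgroup.inv_mem _ hP) hg1) hP, ?_⟩⟩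
    · show Matrix.GeneralLinearGroup.det (P * g * P⁻¹) = 1
      rw [map_mul, map_mul, map_inv, h1, mul_one, mul_inv_cancel]
    · show Matrix.GeneralLinearGroup.det (P⁻¹ * g * P) = 1
      rw [map_mul, map_mul, map_inv, h1, mul_one, inv_mul_cancel]
  have hbne : ∀ i, b i ≠ 0 := fun i h => by
    have := hb i
    rw [h] at this
    simp at this
  have hinjD : ∀ i j, D i = D j → i = j := fun i j h => by
    by_contra hij
    have := hD.orthogonal i j hij _ (hbD i) _ (h ▸ hbD i)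
    rw [hb] at this
    exact one_ne_zero this
  have hmem : ∀ k : GL (Fin 3) F, k ∈ G3 F q →
      (P * k * P⁻¹ ∈ Geo.decompositionStabilizer D ↔ Mono (k : Matrix (Fin 3) (Fin 3) F)) := by
    intro k hk
    have himg : ∀ j, ((P * k * P⁻¹ : GL (Fin 3) F) : Matrix (Fin 3) (Fin 3) F) *ᵥ b j =
        (P : Matrix (Fin 3) (Fin 3) F) *ᵥ (fun i => (k : Matrix (Fin 3) (Fin 3) F) i j) := by
      intro j
      rw [← hPe, mulVec_mulVec, ← Units.val_mul, inv_mul_cancel_right, Units.val_mul, ← mulVec_mulVec]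
      congr 1
      funext i
      simp
    have hco : ∀ v : Fin 3 → F, (P : Matrix (Fin 3) (Fin 3) F) *ᵥ v = ∑ i, v i • b i := by
      intro v
      conv_lhs => rw [pi_eq_sum_univ' v]
      simp only [mulVec_sum, mulVec_smul, hPe]
    have hmap : ∀ j, (D j).map (Matrix.toLin' ((P * k * P⁻¹ : GL (Fin 3) F) : Matrix (Fin 3) (Fin 3) F))
        = Submodule.span F {∑ i, (k : Matrix (Fin 3) (Fin 3) F) i j • b i} := by
      intro j
      rw [hbs, Submodule.map_span, Set.image_singleton, Matrix.toLin'_apply, himg, hco]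
    constructor
    · rintro ⟨σ, hσ⟩ j
      refine ⟨σ j, fun i hi => ?_⟩
      have h1 := hσ j
      rw [hmap] at h1
      obtain ⟨c, hc⟩ := Submodule.mem_span_singleton.1
        (hbs (σ j) ▸ h1 ▸ Submodule.mem_span_singleton_self (∑ i, (k : Matrix (Fin 3) (Fin 3) F) i j • b i))
      have h2 := congrArg (fun v => hermForm 3 F q v (b i)) hc
      have hON' : ∀ i j, hermForm 3 F q (b i) (b j) = if i = j then 1 else 0 := hON
      simp only [herm_smul_left, hON', if_neg (Ne.symm hi), mul_zero, herm_sum_left, mul_ite, mul_one] at h2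
      simpa using h2.symm
    · intro hm
      choose π hπ using hm
      have hmapπ : ∀ j, (D j).map (Matrix.toLin' ((P * k * P⁻¹ : GL (Fin 3) F) : Matrix (Fin 3) (Fin 3) F))
          = D (π j) := by
        intro j
        rw [hmap, hbs (π j), Finset.sum_eq_single (π j) (fun i _ hi => by rw [hπ j i hi, zero_smul])
          (by simp)]
        refine Submodule.span_singleton_smul_eq (Ne.isUnit fun h0 => ?_) _
        have hn := gu_cols hF hk.1 j j
        rw [Finset.sum_eq_single (π j) (fun i _ hi => by rw [hπ j i hi, zero_mul]) (by simp), h0,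
          zero_mul, if_pos rfl] at hn
        exact zero_ne_one hn
      have hinj : Function.Injective π := fun i j h => hinjD i j (by
        refine Submodule.map_injective_of_injective (f := Matrix.toLin'
          ((P * k * P⁻¹ : GL (Fin 3) F) : Matrix (Fin 3) (Fin 3) F)) ?_ ((hmapπ i).trans (h ▸ (hmapπ j).symm))
        intro u v huv
        rw [Matrix.toLin'_apply, Matrix.toLin'_apply] at huv
        exact Matrix.mulVec_injective_of_isUnit (Units.isUnit _) huv)
      exact ⟨Equiv.ofBijective π (Finite.injective_iff_bijective.1 hinj), hmapπ⟩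
  refine ⟨lt_of_le_of_ne inf_le_right fun hEq => ?_, fun M hSM hMG => ?_⟩
  · obtain ⟨n, hn, hn0, hn1⟩ := exists_fixed_ne hF hq
    obtain ⟨a, ha⟩ := exists_norm_eq hF hn
    obtain ⟨b', hb'⟩ := exists_norm_eq hF (a := 1 - n) (by rw [sub_pow_q hF, one_pow, hn])
    have hb0 : b' ≠ 0 := by rintro rfl; exact hn1 (by linear_combination hb')
    obtain ⟨h, hh, hhe⟩ := exists_gu2_full hF (a := a) (b := b') (c := b') hb0
      (by rw [ha, hb']; ring) (by rw [ha, hb']; ring)
    have hdn := (mem_GU_iff.1 hh).det_norm hF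
    set E := blk ((Units.mk0 _ (left_ne_zero_of_mul_eq_one hdn))⁻¹, h)
    have hE : E ∈ G3 F q := by
      refine ⟨(blk_mem_gu_iff hF _ h).2 ⟨?_, hh⟩, mem_sl3.2 ?_⟩
      · rw [Units.val_inv_eq_inv_val, Units.val_mk0, inv_pow, ← mul_inv, hdn, inv_one]
      · rw [blk_det, Units.val_inv_eq_inv_val, Units.val_mk0,
          inv_mul_cancel₀ (left_ne_zero_of_mul_eq_one hdn)]
    have hEm := (hmem E hE).1 ((hEq.symm ▸ (hconj E hE).1 :
      P * E * P⁻¹ ∈ Geo.decompositionStabilizer D ⊓ G3 F q)).1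
    obtain ⟨i, hi⟩ := hEm 1
    have ha0 : a ≠ 0 := by rintro rfl; exact hn0 (by simpa using ha.symm)
    rcases eq_or_ne i 1 with rfl | hi1
    · exact hb0 (by simpa [E, blk_val, hhe] using hi 2 (by decide))
    · exact ha0 (by simpa [E, blk_val, hhe] using hi 1 (Ne.symm hi1))
  by_cases hM : M ≤ Geo.decompositionStabilizer D ⊓ G3 F q
  · exact Or.inl (le_antisymm hM hSM)
  right
  set M' : Subgroup (GL (Fin 3) F) := M.comap (MulAut.conj P).toMonoidHom with hM'
  have hM'mem : ∀ k, k ∈ M' ↔ P * k * P⁻¹ ∈ M := fun k => Iff.rfl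
  have hback : ∀ g : GL (Fin 3) F, P * (P⁻¹ * g * P) * P⁻¹ = g := fun g => by group
  have hM'G : M' ≤ G3 F q := fun k hk => by
    have := (hconj _ (hMG ((hM'mem k).1 hk))).2
    rwa [show P⁻¹ * (P * k * P⁻¹) * P = k by group] at this
  have hmono : ∀ k ∈ G3 F q, Mono (k : Matrix (Fin 3) (Fin 3) F) → k ∈ M' := fun k hk hm =>
    (hM'mem k).2 (hSM ⟨(hmem k hk).2 hm, (hconj k hk).1⟩)
  obtain ⟨g, hgM, hgS⟩ := SetLike.not_le_iff_exists.1 hM
  have hne : ∃ k ∈ M', ¬ Mono (k : Matrix (Fin 3) (Fin 3) F) := by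
    refine ⟨P⁻¹ * g * P, (hM'mem _).2 (by rw [hback]; exact hgM), fun hm => hgS ⟨?_, hMG hgM⟩⟩
    have := (hmem _ (hconj g (hMG hgM)).2).2 hm
    rwa [hback] at this
  have htop := std_frame_maximal hF hq hq5 hM'G hmono hne
  refine le_antisymm hMG fun g' hg' => ?_
  have h1 : P⁻¹ * g' * P ∈ M' := htop ▸ (hconj g' hg').2
  rw [hM'mem, hback] at h1
  exact h1

end Cfsg.Agent.H98.UThree
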