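import Cfsg.Agent.H98.UThree.Burnside
import Cfsg.Agent.Unitary.Order
import Cfsg.Prelude.Def_GeometricClasses

/-!
The unitary group of a plane: antidiagonal elements of subgroups containing a homology of order at
least three, and the maximality of the monomial group.
-/

set_option autoImplicit false
set_option linter.style.haveILetI false

namespace Cfsg.Agent.H98.UThree

open scoped MatrixGroups Matrix LinearAlgebra.Projectivization
open Matrix Cfsg Cfsg.Agent.Unitary

variable {F : Type*} [Field F] [Fintype F] {q : ℕ}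

lemma gu_rows {n : ℕ} (hF : Fintype.card F = q ^ 2) {g : GL (Fin n) F} (hg : g ∈ GU n F q)
    (i j : Fin n) :
    ∑ k, (g : Matrix (Fin n) (Fin n) F) i k ^ q * (g : Matrix (Fin n) (Fin n) F) j k
      = if i = j then 1 else 0 := by
  have h := mul_eq_one_comm.1 ((preserves_iff_transpose_mul hF).1 (mem_GU_iff.1 hg))
  have h1 := congrFun (congrFun h i) j
  rw [Matrix.mul_apply, Matrix.one_apply] at h1
  simpa using h1

lemma gu_cols {n : ℕ} (hF : Fintype.card F = q ^ 2) {g : GL (Fin n) F} (hg : g ∈ GU n F q)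
    (i j : Fin n) :
    ∑ k, (g : Matrix (Fin n) (Fin n) F) k i * (g : Matrix (Fin n) (Fin n) F) k j ^ q
      = if i = j then 1 else 0 := by
  have h1 := congrFun (congrFun ((preserves_iff_transpose_mul hF).1 (mem_GU_iff.1 hg)) i) j
  rw [Matrix.mul_apply, Matrix.one_apply] at h1
  simpa using h1

/-- The entries of a unitary `2 × 2` matrix. -/
structure Rel2 (q : ℕ) (a b c d : F) : Prop where
  col0 : a * a ^ q + c * c ^ q = 1
  col1 : b * b ^ q + d * d ^ q = 1
  cross : a * b ^ q + c * d ^ q = 0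
  row0 : a * a ^ q + b * b ^ q = 1
  row1 : c * c ^ q + d * d ^ q = 1
  rcross : a * c ^ q + b * d ^ q = 0

lemma rel2 (hF : Fintype.card F = q ^ 2) {g : GL (Fin 2) F} (hg : g ∈ GU 2 F q) :
    Rel2 q ((g : Matrix (Fin 2) (Fin 2) F) 0 0) ((g : Matrix (Fin 2) (Fin 2) F) 0 1)
      ((g : Matrix (Fin 2) (Fin 2) F) 1 0) ((g : Matrix (Fin 2) (Fin 2) F) 1 1) where
  col0 := by simpa [Fin.sum_univ_two] using gu_cols hF hg 0 0
  col1 := by simpa [Fin.sum_univ_two] using gu_cols hF hg 1 1
  cross := by simpa [Fin.sum_univ_two] using gu_cols hF hg 0 1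
  row0 := by simpa [Fin.sum_univ_two, mul_comm] using gu_rows hF hg 0 0
  row1 := by simpa [Fin.sum_univ_two, mul_comm] using gu_rows hF hg 1 1
  rcross := by simpa [Fin.sum_univ_two, mul_comm] using gu_rows hF hg 1 0

omit [Fintype F] in
lemma Rel2.c_zero_iff {a b c d : F} (h : Rel2 q a b c d) : c = 0 ↔ b = 0 := by
  have e : b * b ^ q = c * c ^ q := by linear_combination h.row0 - h.col0
  constructor <;> rintro rfl
  · rw [zero_mul, mul_eq_zero] at e
    exact e.elim id fun h => (pow_eq_zero_iff'.1 h).1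
  · rw [zero_mul] at e
    rcases mul_eq_zero.1 e.symm with h | h
    exacts [h, (pow_eq_zero_iff'.1 h).1]

/-- A quadratic with unitary symmetry has a root in the field. -/
theorem exists_root (hF : Fintype.card F = q ^ 2) {τ δ : F} (hδ : δ * δ ^ q = 1)
    (hτ : τ = δ * τ ^ q) : ∃ l : F, l * l - τ * l + δ = 0 := by
  obtain ⟨p, f, hp, hf, hchar, hqp⟩ := exists_char_pow hF
  haveI : Fact p.Prime := ⟨hp⟩
  set K := AlgebraicClosure F
  set φ := algebraMap F K
  haveI : CharP K p := charP_of_injective_ringHom φ.injective p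
  obtain ⟨x, hx⟩ := IsAlgClosed.exists_root
    (Polynomial.X ^ 2 - Polynomial.C (φ τ) * Polynomial.X + Polynomial.C (φ δ))
    (by
      have : (Polynomial.X ^ 2 - Polynomial.C (φ τ) * Polynomial.X + Polynomial.C (φ δ)).natDegree = 2 := by
        compute_degree!
      intro h
      have h2 := Polynomial.natDegree_eq_of_degree_eq_some (n := 0) h
      omega)
  have hx' : x * x - φ τ * x + φ δ = 0 := by
    simpa [sq] using hx
  have hx0 : x ≠ 0 := by
    rintro rfl
    have h0 : φ δ = φ 0 := by rw [map_zero]; linear_combination hx'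
    rw [φ.injective h0, zero_mul] at hδ
    exact zero_ne_one hδ
  have hy : x ^ q * x ^ q - φ τ ^ q * x ^ q + φ δ ^ q = 0 := by
    have := congrArg (iterateFrobenius K p f) hx'
    rw [map_add, map_sub, map_mul, map_mul, map_zero] at this
    simpa only [iterateFrobenius_def, ← hqp] using this
  have hδK : φ δ * φ δ ^ q = 1 := by rw [← map_pow, ← map_mul, hδ, map_one]
  have hτK : φ τ = φ δ * φ τ ^ q := by rw [← map_pow, ← map_mul, ← hτ]
  set y := x ^ q
  have hy0 : y ≠ 0 := pow_ne_zero _ hx0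
  have h1 : φ δ * (y * y) - φ τ * y + 1 = 0 := by
    linear_combination φ δ * hy - y * hτK - hδK
  have h2 : (x * y - 1) * (φ δ * y - x) = 0 := by
    linear_combination x * h1 - y * hx'
  have hfix : x ^ (q * q) = x := by
    rw [pow_mul]
    rcases mul_eq_zero.1 h2 with h | h
    · have hxy : y = x⁻¹ := eq_inv_of_mul_eq_one_right (sub_eq_zero.1 h)
      show y ^ q = x
      rw [hxy, inv_pow, show x ^ q = y from rfl, hxy, inv_inv]
    · have hd0 : φ δ ≠ 0 := left_ne_zero_of_mul_eq_one hδK
      have hxy : φ δ * y = x := sub_eq_zero.1 h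
      calc y ^ q = φ δ * φ δ ^ q * y ^ q := by rw [hδK, one_mul]
        _ = φ δ * (φ δ * y) ^ q := by rw [mul_pow, mul_assoc]
        _ = x := by rw [hxy]; exact hxy
  have hmem : x ∈ Set.range φ := by
    classical
    set P : Polynomial K := Polynomial.X ^ Fintype.card F - Polynomial.X
    have hne : P ≠ 0 := FiniteField.X_pow_card_sub_X_ne_zero K Fintype.one_lt_card
    have hle : P.roots.toFinset.card ≤ Fintype.card F :=
      (Multiset.toFinset_card_le _).trans ((Polynomial.card_roots' P).trans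
        (FiniteField.X_pow_card_sub_X_natDegree_eq K Fintype.one_lt_card).le)
    have hsub : Finset.univ.image φ ⊆ P.roots.toFinset := by
      intro z hz
      obtain ⟨w, -, rfl⟩ := Finset.mem_image.1 hz
      rw [Multiset.mem_toFinset, Polynomial.mem_roots hne]
      simp [P, ← map_pow, FiniteField.pow_card]
    have heq := Finset.eq_of_subset_of_card_le hsub
      (by rwa [Finset.card_image_of_injective _ φ.injective, Finset.card_univ])
    have hxr : x ∈ P.roots.toFinset := by
      rw [Multiset.mem_toFinset, Polynomial.mem_roots hne]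
      simp [P, hF, sq, hfix]
    rw [← heq] at hxr
    obtain ⟨w, -, hw⟩ := Finset.mem_image.1 hxr
    exact ⟨w, hw⟩
  obtain ⟨l, rfl⟩ := hmem
  exact ⟨l, φ.injective (by simpa using hx')⟩

/-- Every element of `GU₂` has an eigenvector. -/
theorem exists_eigen (hF : Fintype.card F = q ^ 2) {g : GL (Fin 2) F} (hg : g ∈ GU 2 F q) :
    ∃ (v : Fin 2 → F) (l : F), v ≠ 0 ∧ (g : Matrix (Fin 2) (Fin 2) F) *ᵥ v = l • v := by
  have h := rel2 hF hg
  set a := (g : Matrix (Fin 2) (Fin 2) F) 0 0
  set b := (g : Matrix (Fin 2) (Fin 2) F) 0 1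
  set c := (g : Matrix (Fin 2) (Fin 2) F) 1 0
  set d := (g : Matrix (Fin 2) (Fin 2) F) 1 1
  have hdet : (g : Matrix (Fin 2) (Fin 2) F).det = a * d - b * c := Matrix.det_fin_two _
  have hn := (mem_GU_iff.1 hg).det_norm hF
  rw [hdet] at hn
  have hcr : a ^ q * c + b ^ q * d = 0 := by
    have := congrArg (fun t => t ^ q) h.rcross
    simpa [add_pow_q hF, mul_pow, pow_q_q hF, zero_pow (q_ne_zero hF)] using this
  obtain ⟨l, hl⟩ := exists_root hF hn (τ := a + d) (by
    rw [add_pow_q hF]
    linear_combination b * hcr - d * h.row0 - a * h.row1 + c * h.rcross)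
  have h0 : ((g : Matrix (Fin 2) (Fin 2) F) - l • 1).det = 0 := by
    rw [Matrix.det_fin_two]
    simp [a, b, c, d] at hl ⊢
    linear_combination hl
  obtain ⟨v, hv, hv'⟩ := Matrix.exists_mulVec_eq_zero_iff.2 h0
  refine ⟨v, l, hv, ?_⟩
  rw [sub_mulVec, smul_mulVec, one_mulVec, sub_eq_zero] at hv'
  exact hv'

omit [Fintype F] in
/-- A matrix with three eigenlines is scalar. -/
theorem scalar_of_three {g : Matrix (Fin 2) (Fin 2) F} {u v w : Fin 2 → F} {l₁ l₂ l₃ : F}
    (hu : g *ᵥ u = l₁ • u) (hv : g *ᵥ v = l₂ • v) (hw : g *ᵥ w = l₃ • w) (hu0 : u ≠ 0)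
    (huv : ∀ t : F, t • u ≠ v) (huw : ∀ t : F, t • u ≠ w) (hvw : ∀ t : F, t • v ≠ w) :
    g = l₃ • (1 : Matrix (Fin 2) (Fin 2) F) := by
  set D := u 0 * v 1 - u 1 * v 0 with hD
  have hD0 : D ≠ 0 := by
    intro h
    rcases eq_or_ne (u 0) 0 with h0 | h0
    · have h1 : u 1 ≠ 0 := fun h1 => hu0 (funext fun i => by fin_cases i <;> assumption)
      apply huv (v 1 / u 1)
      funext i
      fin_cases i
      · rw [hD, h0, zero_mul, zero_sub, neg_eq_zero, mul_eq_zero, or_iff_right h1] at h
        simp [h0, h]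
      · simp [div_mul_cancel₀ _ h1]
    · apply huv (v 0 / u 0)
      funext i
      fin_cases i
      · simp [div_mul_cancel₀ _ h0]
      · simp only [Fin.mk_one, Pi.smul_apply, smul_eq_mul]
        field_simp
        linear_combination -h - hD
  have hdec : ∀ x : Fin 2 → F, x = ((x 0 * v 1 - x 1 * v 0) / D) • u
      + ((u 0 * x 1 - u 1 * x 0) / D) • v := by
    intro x
    funext i
    fin_cases i <;> simp <;> field_simp <;> rw [hD] <;> ring
  obtain ⟨α, β, hwe⟩ : ∃ α β : F, w = α • u + β • v := ⟨_, _, hdec w⟩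
  have hα : α ≠ 0 := fun h => hvw β (by rw [hwe, h, zero_smul, zero_add])
  have hβ : β ≠ 0 := fun h => huw α (by rw [hwe, h, zero_smul, add_zero])
  rw [hwe, mulVec_add, mulVec_smul, mulVec_smul, hu, hv, smul_add] at hw
  have e0 := congrFun hw 0
  have e1 := congrFun hw 1
  simp only [Pi.add_apply, Pi.smul_apply, smul_eq_mul] at e0 e1
  have h1 : l₁ = l₃ := by
    have : α * (l₁ - l₃) * D = 0 := by rw [hD]; linear_combination v 1 * e0 - v 0 * e1
    exact sub_eq_zero.1 ((mul_eq_zero.1 ((mul_eq_zero.1 this).resolve_right hD0)).resolve_left hα)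
  have h2 : l₂ = l₃ := by
    have : β * (l₂ - l₃) * D = 0 := by rw [hD]; linear_combination u 0 * e1 - u 1 * e0
    exact sub_eq_zero.1 ((mul_eq_zero.1 ((mul_eq_zero.1 this).resolve_right hD0)).resolve_left hβ)
  refine Matrix.ext_iff_mulVec.2 fun x => ?_
  rw [smul_mulVec, one_mulVec]
  conv_lhs => rw [hdec x, mulVec_add, mulVec_smul, mulVec_smul, hu, hv, h1, h2]
  conv_rhs => rw [hdec x]
  module

omit [Fintype F] in
lemma mulVec_single0 (g : Matrix (Fin 2) (Fin 2) F) :
    g *ᵥ ![1, 0] = ![g 0 0, g 1 0] := by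
  funext i; fin_cases i <;> simp [mulVec, dotProduct]

omit [Fintype F] in
lemma mulVec_single1 (g : Matrix (Fin 2) (Fin 2) F) :
    g *ᵥ ![0, 1] = ![g 0 1, g 1 1] := by
  funext i; fin_cases i <;> simp [mulVec, dotProduct]

/-- The action of a group of matrices on the projective line. -/
@[reducible] noncomputable def projAct (Y : Subgroup (GL (Fin 2) F)) :
    MulAction Y (ℙ F (Fin 2 → F)) :=
  MulAction.compHom _ ((Matrix.GeneralLinearGroup.toLin (n := Fin 2) (R := F)).toMonoidHom.comp
    Y.subtype)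

omit [Fintype F] in
lemma projAct_eq (Y : Subgroup (GL (Fin 2) F)) (g : Y) {v w : Fin 2 → F} (hv : v ≠ 0)
    (hw : w ≠ 0) :
    (letI := projAct Y; g • Projectivization.mk F v hv = Projectivization.mk F w hw) ↔
      ∃ l : F, ((g : GL (Fin 2) F) : Matrix (Fin 2) (Fin 2) F) *ᵥ v = l • w := by
  show Projectivization.mk F _ _ = Projectivization.mk F w hw ↔ _
  rw [Projectivization.mk_eq_mk_iff']
  exact ⟨fun ⟨l, hl⟩ => ⟨l, hl.symm⟩, fun ⟨l, hl⟩ => ⟨l, hl.symm⟩⟩

/-- A group of `GU₂` with a homology of order at least four (three in characteristic two) and a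
non-diagonal element contains an antidiagonal element. -/
theorem exists_antidiag (hF : Fintype.card F = q ^ 2) {Y : Subgroup (GL (Fin 2) F)}
    (hY : Y ≤ GU 2 F q) {t : GL (Fin 2) F} (ht : t ∈ Y)
    (htd : (t : Matrix (Fin 2) (Fin 2) F) 1 0 = 0)
    (he : (∀ i, 1 ≤ i → i ≤ 3 → (t : Matrix (Fin 2) (Fin 2) F) 0 0 ^ i
        ≠ (t : Matrix (Fin 2) (Fin 2) F) 1 1 ^ i) ∨
      ((2 : F) = 0 ∧ ∀ i, 1 ≤ i → i ≤ 2 → (t : Matrix (Fin 2) (Fin 2) F) 0 0 ^ i
        ≠ (t : Matrix (Fin 2) (Fin 2) F) 1 1 ^ i))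
    (hne : ∃ g ∈ Y, (g : Matrix (Fin 2) (Fin 2) F) 1 0 ≠ 0) :
    ∃ g ∈ Y, (g : Matrix (Fin 2) (Fin 2) F) 0 0 = 0 := by
  classical
  by_contra hcon
  push Not at hcon
  letI := projAct Y
  have e0 : (![1, 0] : Fin 2 → F) ≠ 0 := fun h => one_ne_zero (congrFun h 0)
  have e1 : (![0, 1] : Fin 2 → F) ≠ 0 := fun h => one_ne_zero (congrFun h 1)
  set a := Projectivization.mk F _ e0
  set b := Projectivization.mk F _ e1
  set A := MulAction.stabilizer Y a
  set K : Subgroup Y := (Geo.scalars (Fin 2) F).comap Y.subtype with hKdef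
  have hA : ∀ g : Y, g ∈ A ↔ ((g : GL (Fin 2) F) : Matrix (Fin 2) (Fin 2) F) 1 0 = 0 := by
    intro g
    rw [MulAction.mem_stabilizer_iff, projAct_eq]
    simp only [mulVec_single0]
    exact ⟨fun ⟨l, hl⟩ => by simpa using congrFun hl 1, fun h => ⟨_, by
      funext i; fin_cases i <;> simp [h]; rfl⟩⟩
  have hB : ∀ g : Y, g • b = b ↔ g ∈ A := by
    intro g
    rw [hA, (rel2 hF (hY g.2)).c_zero_iff, projAct_eq]
    simp only [mulVec_single1]
    exact ⟨fun ⟨l, hl⟩ => by simpa using congrFun hl 0, fun h => ⟨_, by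
      funext i; fin_cases i <;> simp [h]; rfl⟩⟩
  have hKmem : ∀ g : Y, g ∈ K ↔ ∃ c : F, ((g : GL (Fin 2) F) : Matrix (Fin 2) (Fin 2) F) = c • 1 := by
    intro g
    rw [hKdef, Subgroup.mem_comap, Geo.mem_scalars_iff]
    refine ⟨fun ⟨c, hc⟩ => ⟨c, hc⟩, fun ⟨c, hc⟩ => ⟨Units.mk0 c ?_, hc⟩⟩
    rintro rfl
    rw [zero_smul] at hc
    exact (g : GL (Fin 2) F).ne_zero hc
  have hK : ∀ k ∈ K, ∀ x : ℙ F (Fin 2 → F), k • x = x := by
    intro k hk x
    obtain ⟨c, hc⟩ := (hKmem k).1 hk
    induction x using Projectivization.ind with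
    | h v hv => exact (projAct_eq Y k hv hv).2 ⟨c, by rw [hc, smul_mulVec, one_mulVec]⟩
  have hfix : ∀ g ∉ K, ∃ x : ℙ F (Fin 2 → F), g • x = x := by
    intro g _
    obtain ⟨v, l, hv, hl⟩ := exists_eigen hF (hY g.2)
    exact ⟨Projectivization.mk F v hv, (projAct_eq Y g hv hv).2 ⟨l, hl⟩⟩
  have htwo : ∀ g ∉ K, ∀ x y z : ℙ F (Fin 2 → F), g • x = x → g • y = y → g • z = z →
      x = y ∨ x = z ∨ y = z := by
    intro g hg x y z hx hy hz
    induction x using Projectivization.ind with
    | h u hu => induction y using Projectivization.ind with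
      | h v hv => induction z using Projectivization.ind with
        | h w hw =>
          by_contra hd
          simp only [not_or, Projectivization.mk_eq_mk_iff', not_exists] at hd
          obtain ⟨l₁, h1⟩ := (projAct_eq Y g hu hu).1 hx
          obtain ⟨l₂, h2⟩ := (projAct_eq Y g hv hv).1 hy
          obtain ⟨l₃, h3⟩ := (projAct_eq Y g hw hw).1 hz
          refine hg ((hKmem g).2 ⟨l₃, scalar_of_three h1 h2 h3 hu ?_ ?_ ?_⟩)
          all_goals
            intro s hs
          · rcases eq_or_ne s 0 with rfl | hs0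
            · exact hv (by rw [← hs, zero_smul])
            · exact hd.1 s⁻¹ (by rw [← hs, inv_smul_smul₀ hs0])
          · rcases eq_or_ne s 0 with rfl | hs0
            · exact hw (by rw [← hs, zero_smul])
            · exact hd.2.1 s⁻¹ (by rw [← hs, inv_smul_smul₀ hs0])
          · rcases eq_or_ne s 0 with rfl | hs0
            · exact hw (by rw [← hs, zero_smul])
            · exact hd.2.2 s⁻¹ (by rw [← hs, inv_smul_smul₀ hs0])
  have hnb : ∀ g : Y, g • a ≠ b := by
    intro g h
    obtain ⟨l, hl⟩ := (projAct_eq Y g e0 e1).1 h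
    rw [mulVec_single0] at hl
    exact hcon g g.2 (by simpa using congrFun hl 0)
  -- the size of the point stabiliser
  have htr : (t : Matrix (Fin 2) (Fin 2) F) = diagonal ![(t : Matrix (Fin 2) (Fin 2) F) 0 0, (t : Matrix (Fin 2) (Fin 2) F) 1 1] := by
    have := (rel2 hF (hY ht)).c_zero_iff.1 htd
    ext i j; fin_cases i <;> fin_cases j <;> simp [htd, this]
  set tY : Y := ⟨t, ht⟩
  have hpow : ∀ i : ℕ, (((tY ^ i : Y) : GL (Fin 2) F) : Matrix (Fin 2) (Fin 2) F)
      = diagonal ![(t : Matrix (Fin 2) (Fin 2) F) 0 0 ^ i, (t : Matrix (Fin 2) (Fin 2) F) 1 1 ^ i] := by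
    intro i
    rw [SubmonoidClass.coe_pow, Units.val_pow_eq_pow_val, show ((tY : GL (Fin 2) F)) = t from rfl]
    conv_lhs => rw [htr]
    rw [diagonal_pow]
    congr 1
    funext j; fin_cases j <;> rfl
  have hcount : ∀ r : ℕ, (∀ i, 1 ≤ i → i < r → (t : Matrix (Fin 2) (Fin 2) F) 0 0 ^ i
      ≠ (t : Matrix (Fin 2) (Fin 2) F) 1 1 ^ i) → r * Nat.card K ≤ Nat.card A := by
    intro r hr
    have hmem : ∀ i : ℕ, tY ^ i ∈ A := fun i => by rw [hA, hpow]; simp
    have hKA : ∀ k ∈ K, k ∈ A := fun k hk => MulAction.mem_stabilizer_iff.2 (hK k hk a)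
    let φ : Fin r × K → A := fun p => ⟨tY ^ (p.1 : ℕ) * p.2, A.mul_mem (hmem _) (hKA _ p.2.2)⟩
    have hφ : Function.Injective φ := by
      rintro ⟨i, k⟩ ⟨j, k'⟩ h
      have h1 : tY ^ (i : ℕ) * (k : Y) = tY ^ (j : ℕ) * (k' : Y) := congrArg Subtype.val h
      have key : ∀ (i j : ℕ) (k k' : K), i ≤ j → j < r → tY ^ i * (k : Y) = tY ^ j * (k' : Y) →
          i = j := by
        intro i j k k' hij hj h1
        by_contra hne'
        have h2 : tY ^ (j - i) ∈ K := by
          have : tY ^ (j - i) = (k : Y) * (k' : Y)⁻¹ := by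
            apply mul_left_cancel (a := tY ^ i)
            rw [← pow_add, Nat.add_sub_cancel' hij, ← mul_assoc, h1, mul_inv_cancel_right]
          rw [this]
          exact K.mul_mem k.2 (K.inv_mem k'.2)
        obtain ⟨c, hc⟩ := (hKmem _).1 h2
        rw [hpow] at hc
        have h00 := congrFun (congrFun hc 0) 0
        have h11 := congrFun (congrFun hc 1) 1
        simp at h00 h11
        exact hr (j - i) (by omega) (by omega) (h00.trans h11.symm)
      have hij : (i : ℕ) = j := by
        rcases le_total (i : ℕ) j with h' | h'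
        · exact key i j k k' h' j.2 h1
        · exact (key j i k' k h' i.2 h1.symm).symm
      rw [hij] at h1
      exact Prod.ext (Fin.ext hij) (Subtype.ext (mul_left_cancel h1))
    have := Nat.card_le_card_of_injective φ hφ
    rwa [Nat.card_prod, Nat.card_fin] at this
  have htop : A = ⊤ := by
    refine eq_top_of_two_orbits K A a b (fun g => MulAction.mem_stabilizer_iff) hB hK hfix htwo
      hnb ?_
    rcases he with he | ⟨h2, he⟩
    · exact Or.inl (hcount 4 fun i h1 h4 => he i h1 (by omega))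
    · refine Or.inr ⟨hcount 3 fun i h1 h3 => he i h1 (by omega), fun g hg hg2 x y hx hy => ?_⟩
      induction x using Projectivization.ind with
      | h u hu => induction y using Projectivization.ind with
        | h v hv =>
          by_contra hd
          rw [Projectivization.mk_eq_mk_iff', not_exists] at hd
          obtain ⟨l₁, h1⟩ := (projAct_eq Y g hu hu).1 hx
          obtain ⟨l₂, h3⟩ := (projAct_eq Y g hv hv).1 hy
          obtain ⟨c, hc⟩ := (hKmem _).1 hg2
          have hsq : ∀ {w : Fin 2 → F} {l : F}, w ≠ 0 →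
              ((g : GL (Fin 2) F) : Matrix (Fin 2) (Fin 2) F) *ᵥ w = l • w → l * l = c := by
            intro w l hw hl
            have := congrArg (fun m => m *ᵥ w) hc
            simp only [Subgroup.coe_mul, Units.val_mul, ← mulVec_mulVec, hl, mulVec_smul, smul_smul,
              smul_mulVec, one_mulVec] at this
            exact smul_left_injective F hw this
          have hl : l₁ = l₂ := by
            have : (l₁ - l₂) * (l₁ - l₂) = 0 := by
              linear_combination hsq hu h1 - hsq hv h3 + (l₂ * l₂ - l₁ * l₂) * h2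
            exact sub_eq_zero.1 (mul_self_eq_zero.1 this)
          subst hl
          have hu' : ∀ s : F, s • u ≠ v := by
            intro s hs
            rcases eq_or_ne s 0 with rfl | hs0
            · exact hv (by rw [← hs, zero_smul])
            · exact hd s⁻¹ (by rw [← hs, inv_smul_smul₀ hs0])
          refine hg ((hKmem g).2 ⟨l₁, scalar_of_three (w := u + v) h1 h3
            (by rw [mulVec_add, h1, h3, smul_add]) hu hu' ?_ ?_⟩)
          · intro s hs
            exact hu' (s - 1) (by rw [sub_smul, one_smul, hs, add_sub_cancel_left])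
          · intro s hs
            apply hd (s - 1)
            rw [sub_smul, one_smul, hs, add_sub_cancel_right]
  obtain ⟨g, hg, hg0⟩ := hne
  exact hg0 ((hA ⟨g, hg⟩).1 (htop ▸ Subgroup.mem_top _))

end Cfsg.Agent.H98.UThree
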