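import Cfsg.Agent.H98.UThree.Plane

/-!
The monomial group is maximal in the unitary group of a plane, by Lagrange and a count of the
norms of the first entry.
-/

set_option autoImplicit false
set_option linter.style.haveILetI false
set_option maxHeartbeats 1000000

namespace Cfsg.Agent.H98.UThree

open scoped MatrixGroups Matrix
open Matrix Cfsg Cfsg.Agent.Unitary

variable {F : Type*} [Field F] [Fintype F] {q : ℕ}

lemma exists_gu2_diag (hF : Fintype.card F = q ^ 2) {l m : F} (hl : l * l ^ q = 1)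
    (hm : m * m ^ q = 1) :
    ∃ g ∈ GU 2 F q, (g : Matrix (Fin 2) (Fin 2) F) = !![l, 0; 0, m] := by
  have hP : Preserves q !![l, 0; 0, m] := by
    rw [preserves_iff_transpose_mul hF]
    ext i j
    fin_cases i <;> fin_cases j <;>
      simp [Matrix.mul_apply, Fin.sum_univ_two, hl, hm, zero_pow (q_ne_zero hF)]
  exact ⟨_, (toGU hF hP).2, coe_toGU hF hP⟩

lemma exists_gu2_anti (hF : Fintype.card F = q ^ 2) {l m : F} (hl : l * l ^ q = 1)
    (hm : m * m ^ q = 1) :
    ∃ g ∈ GU 2 F q, (g : Matrix (Fin 2) (Fin 2) F) = !![0, l; m, 0] := by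
  have hP : Preserves q !![0, l; m, 0] := by
    rw [preserves_iff_transpose_mul hF]
    ext i j
    fin_cases i <;> fin_cases j <;>
      simp [Matrix.mul_apply, Fin.sum_univ_two, hl, hm, zero_pow (q_ne_zero hF)]
  exact ⟨_, (toGU hF hP).2, coe_toGU hF hP⟩

lemma exists_gu2_full (hF : Fintype.card F = q ^ 2) {a b c : F} (hb : b ≠ 0)
    (h1 : a * a ^ q + b * b ^ q = 1) (h2 : a * a ^ q + c * c ^ q = 1) :
    ∃ g ∈ GU 2 F q, (g : Matrix (Fin 2) (Fin 2) F) = !![a, b; c, -(a ^ q * c) / b ^ q] := by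
  have hbq : b ^ q ≠ 0 := pow_ne_zero _ hb
  have hd : (-(a ^ q * c) / b ^ q) ^ q = -(a * c ^ q) / b := by
    rw [div_pow, neg_pow_q hF, mul_pow, pow_q_q hF, pow_q_q hF]
  have hbc : b * b ^ q = c * c ^ q := by linear_combination h1 - h2
  have hP : Preserves q !![a, b; c, -(a ^ q * c) / b ^ q] := by
    rw [preserves_iff_transpose_mul hF]
    ext i j
    fin_cases i <;> fin_cases j <;> simp [Matrix.mul_apply, Fin.sum_univ_two, hd]
    · exact h2
    · field_simp
      linear_combination a * hbc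
    · field_simp
      linear_combination a ^ q * hbc
    · field_simp
      linear_combination (b * b ^ q) * h1 - a * a ^ q * hbc
  exact ⟨_, (toGU hF hP).2, coe_toGU hF hP⟩

lemma orbit_arith {q t k j : ℕ} (hq : t + 2 = q) (hk1 : 1 ≤ k) (hj2 : 2 ≤ j)
    (hj : 2 + t * (q + 1) = (2 + k * (q + 1)) * j) : k = 1 ∧ 6 ≤ q := by
  have hz : ((q : ℤ) + 1) * (t - j * k) = 2 * (j - 1) := by
    have := congrArg (fun x : ℕ => (x : ℤ)) hj
    push_cast at this
    linarith
  have hjq : (j : ℤ) ≤ q := by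
    by_contra h
    have h1 : q + 1 ≤ j := by omega
    have h2 : q + 3 ≤ 2 + k * (q + 1) := by
      have := Nat.mul_le_mul_right (q + 1) hk1
      omega
    have h3 := Nat.mul_le_mul h2 h1
    rw [← hj] at h3
    have h4 : t * (q + 1) ≤ q * (q + 1) := Nat.mul_le_mul_right _ (by omega)
    have h5 : (q + 3) * (q + 1) = q * (q + 1) + 3 * (q + 1) := by ring
    omega
  have hq0 : (0 : ℤ) ≤ (q : ℤ) + 1 := by omega
  have hd1 : 0 < (t : ℤ) - j * k := by
    by_contra hd
    have := mul_nonpos_of_nonneg_of_nonpos hq0 (not_lt.1 hd)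
    omega
  have hd2 : (t : ℤ) - j * k < 2 := by
    by_contra hd
    have := mul_le_mul_of_nonneg_left (not_lt.1 hd) hq0
    omega
  have hd : (t : ℤ) - j * k = 1 := by omega
  rw [hd, mul_one] at hz
  have hk : k = 1 := by
    by_contra hk
    have h2 : (j : ℤ) * 2 ≤ j * k := mul_le_mul_of_nonneg_left (by omega) (by omega)
    omega
  subst hk
  refine ⟨rfl, ?_⟩
  push_cast at hd
  omega

/-- The monomial group is maximal in `GU₂(q)`, `q ≥ 3`. -/
theorem gu_le_of_monomial (hF : Fintype.card F = q ^ 2) (hq : 3 ≤ q)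
    {Y : Subgroup (GL (Fin 2) F)} (hY : Y ≤ GU 2 F q)
    (hmono : ∀ g ∈ GU 2 F q, ((g : Matrix (Fin 2) (Fin 2) F) 1 0 = 0 ∨
      (g : Matrix (Fin 2) (Fin 2) F) 0 0 = 0) → g ∈ Y)
    {g₀ : GL (Fin 2) F} (hg₀ : g₀ ∈ Y) (hc₀ : (g₀ : Matrix (Fin 2) (Fin 2) F) 1 0 ≠ 0)
    (ha₀ : (g₀ : Matrix (Fin 2) (Fin 2) F) 0 0 ≠ 0) : GU 2 F q ≤ Y := by
  classical
  letI : Fintype (GL (Fin 2) F) := Fintype.ofFinite _
  set e : GL (Fin 2) F → Matrix (Fin 2) (Fin 2) F := fun g => (g : Matrix (Fin 2) (Fin 2) F) with he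
  set N : GL (Fin 2) F → F := fun g => e g 0 0 * e g 0 0 ^ q with hN
  set T : Finset F := Finset.univ.filter fun n => n ^ q = n ∧ n ≠ 0 ∧ n ≠ 1 with hT
  have h1q : (1 : F) ^ q = 1 := one_pow q
  have h0q : (0 : F) ^ q = 0 := zero_pow (q_ne_zero hF)
  have hNq : ∀ g, N g ^ q = N g := fun g => norm_pow_q hF _
  have hrel : ∀ g ∈ GU 2 F q, Rel2 q (e g 0 0) (e g 0 1) (e g 1 0) (e g 1 1) := fun g hg =>
    rel2 hF hg
  have hzero : ∀ g ∈ GU 2 F q, (N g = 1 ↔ e g 1 0 = 0) ∧ (N g = 0 ↔ e g 0 0 = 0) := by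
    intro g hg
    refine ⟨⟨fun h => ?_, fun h => ?_⟩, ⟨fun h => ?_, fun h => ?_⟩⟩
    · have h2 := (hrel g hg).col0
      rw [show e g 0 0 * e g 0 0 ^ q = N g from rfl, h, add_eq_left, mul_eq_zero] at h2
      exact h2.elim id fun h => (pow_eq_zero_iff'.1 h).1
    · have h2 := (hrel g hg).col0
      rwa [h, zero_mul, add_zero] at h2
    · exact (mul_eq_zero.1 h).elim id fun h => (pow_eq_zero_iff'.1 h).1
    · simp only [hN, h, zero_mul]
  have hmaps : ∀ g ∈ GU 2 F q, N g = 0 ∨ N g = 1 ∨ N g ∈ T := by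
    intro g _
    by_cases h0 : N g = 0
    · exact Or.inl h0
    by_cases h1 : N g = 1
    · exact Or.inr (Or.inl h1)
    exact Or.inr (Or.inr (Finset.mem_filter.2 ⟨Finset.mem_univ _, hNq g, h0, h1⟩))
  -- all elements with a given norm of the first entry lie in `Y` once one does
  have hfib : ∀ g ∈ Y, ∀ g' ∈ GU 2 F q, N g ∈ T → N g' = N g → g' ∈ Y := by
    intro g hg g' hg' hn hgg
    obtain ⟨-, -, hn0, hn1⟩ := Finset.mem_filter.1 hn
    have r := hrel g (hY hg)
    have r' := hrel g' hg'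
    have hA : e g' 0 0 * e g' 0 0 ^ q = e g 0 0 * e g 0 0 ^ q := hgg
    have ha0 : e g 0 0 ≠ 0 := fun h => hn0 (((hzero g (hY hg)).2).2 h)
    have hc0 : e g 1 0 ≠ 0 := fun h => hn1 (((hzero g (hY hg)).1).2 h)
    have hb0 : e g 0 1 ≠ 0 := fun h => hc0 (r.c_zero_iff.2 h)
    have hc0' : e g' 1 0 ≠ 0 := fun h => hn1 (hgg ▸ ((hzero g' hg').1).2 h)
    have hb0' : e g' 0 1 ≠ 0 := fun h => hc0' (r'.c_zero_iff.2 h)
    set l₁ := e g' 0 0 / e g 0 0
    set l₂ := e g' 1 0 / e g 1 0
    set s := e g' 0 1 / (l₁ * e g 0 1)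
    have hdiv : ∀ {x y : F}, y ≠ 0 → x * x ^ q = y * y ^ q → x / y * (x / y) ^ q = 1 := by
      intro x y hy hxy
      rw [div_pow, div_mul_div_comm, hxy, div_self (mul_ne_zero hy (pow_ne_zero _ hy))]
    have hl1 : l₁ * l₁ ^ q = 1 := hdiv ha0 hA
    have hl2 : l₂ * l₂ ^ q = 1 := hdiv hc0 (by linear_combination r'.col0 - r.col0 - hA)
    have hl10 : l₁ ≠ 0 := left_ne_zero_of_mul_eq_one hl1
    have hl20 : l₂ ≠ 0 := left_ne_zero_of_mul_eq_one hl2
    have hs : s * s ^ q = 1 := hdiv (mul_ne_zero hl10 hb0) (by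
      rw [mul_pow]
      linear_combination r'.row0 - r.row0 - hA - e g 0 1 * e g 0 1 ^ q * hl1)
    obtain ⟨d₁, hd1, hd1e⟩ := exists_gu2_diag hF hl1 hl2
    obtain ⟨d₂, hd2, hd2e⟩ := exists_gu2_diag hF (l := 1) (by rw [h1q, mul_one]) hs
    have hh : d₁ * g * d₂ ∈ Y := Y.mul_mem (Y.mul_mem (hmono _ hd1 (Or.inl (by simp [hd1e]))) hg)
      (hmono _ hd2 (Or.inl (by simp [hd2e])))
    suffices g' = d₁ * g * d₂ by rwa [this]
    set h := d₁ * g * d₂
    have hev : e h = !![l₁ * e g 0 0, l₁ * e g 0 1 * s; l₂ * e g 1 0, l₂ * e g 1 1 * s] := by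
      simp only [he, h, Units.val_mul, hd1e, hd2e]
      ext i j
      fin_cases i <;> fin_cases j <;>
        simp [Matrix.mul_apply, Fin.sum_univ_two, Matrix.vecMul, dotProduct]
    have r'' := hrel h (hY hh)
    have e00 : e h 0 0 = e g' 0 0 := by simp [hev, l₁, div_mul_cancel₀ _ ha0]
    have e01 : e h 0 1 = e g' 0 1 := by
      simp [hev, s, mul_div_cancel₀ _ (mul_ne_zero hl10 hb0)]
    have e10 : e h 1 0 = e g' 1 0 := by simp [hev, l₂, div_mul_cancel₀ _ hc0]
    have e11 : e h 1 1 = e g' 1 1 := by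
      have h1 := r''.rcross
      rw [e00, e01, e10, ← r'.rcross, add_right_inj] at h1
      exact pow_q_injective hF (mul_left_cancel₀ hb0' h1)
    refine Units.ext (Matrix.ext fun i j => ?_)
    fin_cases i <;> fin_cases j <;> symm <;> assumption
  -- counting
  set U : Finset F := Finset.univ.filter fun x => x * x ^ q = 1 with hU
  have hUc : U.card = q + 1 := by
    rw [← card_norm_eq_one hF, Nat.card_eq_fintype_card, Fintype.card_subtype]
  have hcirc : ∀ n, n ^ q = n → n ≠ 0 →
      (Finset.univ.filter fun x : F => x * x ^ q = n).card = q + 1 := by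
    intro n hn hn0
    rw [← card_norm_eq hF hn0 hn, Nat.card_eq_fintype_card, Fintype.card_subtype]
  let Fib : F → Finset (GL (Fin 2) F) := fun n =>
    Finset.univ.filter fun g => g ∈ GU 2 F q ∧ N g = n
  have hF01 : (Fib 1).card = (q + 1) * (q + 1) ∧ (Fib 0).card = (q + 1) * (q + 1) := by
    rw [← hUc, ← Finset.card_product]
    constructor
    · refine Finset.card_bij (fun g _ => (e g 0 0, e g 1 1)) (fun g hg => ?_) (fun g hg g' hg' h => ?_)
        (fun p hp => ?_)
      · obtain ⟨hgu, hn⟩ := (Finset.mem_filter.1 hg).2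
        have hb := (hrel g hgu).c_zero_iff.1 ((hzero g hgu).1.1 hn)
        have h1 := (hrel g hgu).col1
        rw [hb, zero_mul, zero_add] at h1
        simp only [Finset.mem_product, hU, Finset.mem_filter, Finset.mem_univ, true_and]
        exact ⟨hn, h1⟩
      · obtain ⟨hgu, hn⟩ := (Finset.mem_filter.1 hg).2
        obtain ⟨hgu', hn'⟩ := (Finset.mem_filter.1 hg').2
        have h10 := (hzero g hgu).1.1 hn
        have h10' := (hzero g' hgu').1.1 hn'
        have h01 := (hrel g hgu).c_zero_iff.1 h10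
        have h01' := (hrel g' hgu').c_zero_iff.1 h10'
        simp only [Prod.mk.injEq] at h
        refine Units.ext (Matrix.ext fun i j => ?_)
        fin_cases i <;> fin_cases j
        exacts [h.1, h01.trans h01'.symm, h10.trans h10'.symm, h.2]
      · simp only [Finset.mem_product, hU, Finset.mem_filter, Finset.mem_univ, true_and] at hp
        obtain ⟨g, hg, hge⟩ := exists_gu2_diag hF hp.1 hp.2
        exact ⟨g, Finset.mem_filter.2 ⟨Finset.mem_univ _, hg, by simp [hN, he, hge, hp.1]⟩,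
          by simp [he, hge]⟩
    · refine Finset.card_bij (fun g _ => (e g 0 1, e g 1 0)) (fun g hg => ?_) (fun g hg g' hg' h => ?_)
        (fun p hp => ?_)
      · obtain ⟨hgu, hn⟩ := (Finset.mem_filter.1 hg).2
        have ha := (hzero g hgu).2.1 hn
        have h1 := (hrel g hgu).row0
        have h2 := (hrel g hgu).col0
        rw [ha, zero_mul, zero_add] at h1 h2
        simp only [Finset.mem_product, hU, Finset.mem_filter, Finset.mem_univ, true_and]
        exact ⟨h1, h2⟩
      · obtain ⟨hgu, hn⟩ := (Finset.mem_filter.1 hg).2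
        obtain ⟨hgu', hn'⟩ := (Finset.mem_filter.1 hg').2
        have ha := (hzero g hgu).2.1 hn
        have ha' := (hzero g' hgu').2.1 hn'
        have hd : ∀ x, x ∈ GU 2 F q → e x 0 0 = 0 → e x 1 1 = 0 := by
          intro x hx hx0
          have h1 := (hrel x hx).row1
          have h2 := (hrel x hx).col0
          rw [hx0, zero_mul, zero_add] at h2
          rw [h2, add_eq_left, mul_eq_zero] at h1
          exact h1.elim id fun h => (pow_eq_zero_iff'.1 h).1
        simp only [Prod.mk.injEq] at h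
        refine Units.ext (Matrix.ext fun i j => ?_)
        fin_cases i <;> fin_cases j
        exacts [ha.trans ha'.symm, h.1, h.2, (hd g hgu ha).trans (hd g' hgu' ha').symm]
      · simp only [Finset.mem_product, hU, Finset.mem_filter, Finset.mem_univ, true_and] at hp
        obtain ⟨g, hg, hge⟩ := exists_gu2_anti hF hp.1 hp.2
        exact ⟨g, Finset.mem_filter.2 ⟨Finset.mem_univ _, hg, by simp [hN, he, hge]⟩,
          by simp [he, hge]⟩
  have hFn : ∀ n ∈ T, (Fib n).card = (q + 1) * ((q + 1) * (q + 1)) := by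
    intro n hn
    obtain ⟨-, hnq, hn0, hn1⟩ := Finset.mem_filter.1 hn
    have hn1' : (1 - n) ^ q = 1 - n := by rw [sub_pow_q hF, h1q, hnq]
    have hn10 : 1 - n ≠ 0 := sub_ne_zero.2 (Ne.symm hn1)
    have hc := hcirc (1 - n) hn1' hn10
    calc (Fib n).card
        = ((Finset.univ.filter fun x : F => x * x ^ q = n) ×ˢ
            ((Finset.univ.filter fun x : F => x * x ^ q = 1 - n) ×ˢ
              (Finset.univ.filter fun x : F => x * x ^ q = 1 - n))).card := ?_
      _ = _ := by rw [Finset.card_product, Finset.card_product, hc, hcirc n hnq hn0]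
    refine Finset.card_bij (fun g _ => (e g 0 0, e g 0 1, e g 1 0)) (fun g hg => ?_)
      (fun g hg g' hg' h => ?_) (fun p hp => ?_)
    · obtain ⟨hgu, hgn⟩ := (Finset.mem_filter.1 hg).2
      simp only [Finset.mem_product, Finset.mem_filter, Finset.mem_univ, true_and]
      exact ⟨hgn, by linear_combination (hrel g hgu).row0 - hgn, by
        linear_combination (hrel g hgu).col0 - hgn⟩
    · obtain ⟨hgu, hgn⟩ := (Finset.mem_filter.1 hg).2
      obtain ⟨hgu', hgn'⟩ := (Finset.mem_filter.1 hg').2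
      simp only [Prod.mk.injEq] at h
      obtain ⟨e00, e01, e10⟩ := h
      have hb : e g 0 1 ≠ 0 := fun h => by
        have h2 := (hrel g hgu).row0
        rw [h, zero_mul, add_zero, show e g 0 0 * e g 0 0 ^ q = N g from rfl, hgn] at h2
        exact hn1 h2
      have h1 := (hrel g hgu).rcross
      rw [e00, e10, ← (hrel g' hgu').rcross, ← e01, add_right_inj] at h1
      have e11 := pow_q_injective hF (mul_left_cancel₀ hb h1)
      refine Units.ext (Matrix.ext fun i j => ?_)
      fin_cases i <;> fin_cases j <;> assumption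
    · simp only [Finset.mem_product, Finset.mem_filter, Finset.mem_univ, true_and] at hp
      obtain ⟨ha, hb, hc⟩ := hp
      obtain ⟨g, hg, hge⟩ := exists_gu2_full hF (a := p.1) (b := p.2.1) (c := p.2.2)
        (fun h => hn10 (by rw [← hb, h, zero_mul])) (by rw [ha, hb]; ring) (by rw [ha, hc]; ring)
      exact ⟨g, Finset.mem_filter.2 ⟨Finset.mem_univ _, hg, by simp [hN, he, hge, ha]⟩,
        by simp [he, hge]⟩
  set A := (q + 1) * (q + 1) with hAdef
  -- the order of a subgroup containing the monomial group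
  have hcard : ∀ Z : Subgroup (GL (Fin 2) F), Z ≤ GU 2 F q →
      (∀ g ∈ GU 2 F q, (e g 1 0 = 0 ∨ e g 0 0 = 0) → g ∈ Z) → ∀ S ⊆ T,
      (∀ g ∈ GU 2 F q, N g ∈ T → (g ∈ Z ↔ N g ∈ S)) →
      Nat.card Z = A * (2 + S.card * (q + 1)) := by
    intro Z hZ hZm S hS hSiff
    have h01 : (0 : F) ∉ insert (1 : F) S := by
      rw [Finset.mem_insert]
      rintro (h | h)
      · exact zero_ne_one h
      · exact (Finset.mem_filter.1 (hS h)).2.2.1 rfl
    have h1 : (1 : F) ∉ S := fun h => (Finset.mem_filter.1 (hS h)).2.2.2 rfl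
    rw [Nat.card_eq_fintype_card, Fintype.card_subtype,
      Finset.card_eq_sum_card_fiberwise (f := N) (t := insert 0 (insert 1 S))]
    swap
    · intro g hg
      have hgZ : g ∈ Z := (Finset.mem_filter.1 hg).2
      simp only [Finset.coe_insert, Set.mem_insert_iff, Finset.mem_coe]
      rcases hmaps g (hZ hgZ) with h | h | h
      exacts [Or.inl h, Or.inr (Or.inl h), Or.inr (Or.inr ((hSiff g (hZ hgZ) h).1 hgZ))]
    have hfibeq : ∀ n ∈ insert (0 : F) (insert 1 S),
        ((Finset.univ.filter fun g => g ∈ Z).filter fun g => N g = n) = Fib n := by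
      intro n hn
      ext g
      simp only [Fib, Finset.mem_filter, Finset.mem_univ, true_and]
      refine ⟨fun h => ⟨hZ h.1, h.2⟩, fun ⟨hg, hgn⟩ => ⟨?_, hgn⟩⟩
      simp only [Finset.mem_insert] at hn
      rcases hn with rfl | rfl | hn
      · exact hZm g hg (Or.inr ((hzero g hg).2.1 hgn))
      · exact hZm g hg (Or.inl ((hzero g hg).1.1 hgn))
      · exact (hSiff g hg (hgn ▸ hS hn)).2 (hgn ▸ hn)
    rw [Finset.sum_congr rfl fun n hn => congrArg Finset.card (hfibeq n hn),
      Finset.sum_insert h01, Finset.sum_insert h1, hF01.1, hF01.2,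
      Finset.sum_congr rfl fun n hn => hFn n (hS hn), Finset.sum_const, smul_eq_mul]
    rw [hAdef]
    ring
  set S : Finset F := T.filter fun n => ∃ g ∈ Y, N g = n with hSdef
  have hYS : Nat.card Y = A * (2 + S.card * (q + 1)) := by
    refine hcard Y hY hmono S (Finset.filter_subset _ _) fun g hg hn => ⟨fun h => ?_, fun h => ?_⟩
    · exact Finset.mem_filter.2 ⟨hn, g, h, rfl⟩
    · obtain ⟨g', hg', hn'⟩ := (Finset.mem_filter.1 h).2
      exact hfib g' hg' g hg (by rw [hn']; exact hn) hn'.symm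
  have hG : Nat.card (GU 2 F q) = A * (2 + T.card * (q + 1)) :=
    hcard _ le_rfl (fun g hg _ => hg) T (Finset.Subset.refl _) fun g hg hn => iff_of_true hg hn
  have hTc : T.card + 2 = q := by
    have h := card_fixed hF
    rw [Nat.card_eq_fintype_card, Fintype.card_subtype] at h
    have heq : (Finset.univ.filter fun x : F => x ^ q = x) = insert 0 (insert 1 T) := by
      ext x
      simp only [hT, Finset.mem_insert, Finset.mem_filter, Finset.mem_univ, true_and]
      refine ⟨fun h => ?_, ?_⟩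
      · by_cases h0 : x = 0
        · exact Or.inl h0
        · by_cases h1 : x = 1
          · exact Or.inr (Or.inl h1)
          · exact Or.inr (Or.inr ⟨h, h0, h1⟩)
      · rintro (rfl | rfl | h)
        exacts [h0q, h1q, h.1]
    rwa [heq, Finset.card_insert_of_notMem (by simp [hT]),
      Finset.card_insert_of_notMem (by simp [hT])] at h
  have hn₀ : N g₀ ∈ S := by
    refine Finset.mem_filter.2 ⟨?_, g₀, hg₀, rfl⟩
    exact (hmaps g₀ (hY hg₀)).resolve_left (fun h => ha₀ ((hzero g₀ (hY hg₀)).2.1 h))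
      |>.resolve_left fun h => hc₀ ((hzero g₀ (hY hg₀)).1.1 h)
  have hk1 : 1 ≤ S.card := Finset.card_pos.2 ⟨_, hn₀⟩
  have hkT : S.card ≤ T.card := Finset.card_le_card (Finset.filter_subset _ _)
  by_cases hkeq : S.card = T.card
  · intro g hg
    rcases hmaps g hg with h | h | h
    · exact hmono g hg (Or.inr ((hzero g hg).2.1 h))
    · exact hmono g hg (Or.inl ((hzero g hg).1.1 h))
    · rw [← Finset.eq_of_subset_of_card_le (Finset.filter_subset _ _) hkeq.ge] at h
      obtain ⟨g', hg', hn'⟩ := (Finset.mem_filter.1 h).2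
      exact hfib g' hg' g hg (by rw [hn']; exact (Finset.mem_filter.1 h).1) hn'.symm
  exfalso
  obtain ⟨j, hj⟩ : 2 + S.card * (q + 1) ∣ 2 + T.card * (q + 1) := by
    refine Nat.dvd_of_mul_dvd_mul_left (k := A) (by positivity) ?_
    rw [← hYS, ← hG]
    exact Subgroup.card_dvd_of_le hY
  have hj2 : 2 ≤ j := by
    by_contra h
    interval_cases j
    · simp at hj
    · rw [mul_one, add_right_inj] at hj
      exact hkeq (Nat.eq_of_mul_eq_mul_right (Nat.succ_pos q) hj).symm
  -- only the case `q = 9`, one further norm, survives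
  obtain ⟨hk, hq9⟩ := orbit_arith hTc hk1 hj2 hj
  obtain ⟨n, hSn⟩ := Finset.card_eq_one.1 hk
  rw [hSn, Finset.mem_singleton] at hn₀
  have hnT : n ∈ T := (Finset.filter_subset _ _) (show n ∈ S by rw [hSn]; exact Finset.mem_singleton_self _)
  obtain ⟨-, hnq, hn0, hn1⟩ := Finset.mem_filter.1 hnT
  set a := e g₀ 0 0
  set b := e g₀ 0 1
  have hb0 : b ≠ 0 := fun h => hc₀ ((hrel g₀ (hY hg₀)).c_zero_iff.2 h)
  have ha : a * a ^ q = n := hn₀
  have hb : b * b ^ q = 1 - n := by linear_combination (hrel g₀ (hY hg₀)).row0 - ha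
  set v : F → F := fun u => (n * u + (1 - n)) * (n * u ^ q + (1 - n))
  have hv : ∀ u ∈ U, v u ∈ ({0, 1, n} : Finset F) := by
    intro u hu
    have huu : u * u ^ q = 1 := (Finset.mem_filter.1 hu).2
    have hA' : (a ^ q * u) * (a ^ q * u) ^ q = n := by
      rw [mul_pow, pow_q_q hF]; linear_combination a * a ^ q * huu + ha
    obtain ⟨g', hg', hge⟩ := exists_gu2_full hF (a := a ^ q * u) (b := b) (c := b ^ q) hb0
      (by rw [hA', hb]; ring) (by rw [hA', pow_q_q hF, mul_comm, hb]; ring)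
    have hNg' : N g' = n := by simp only [hN, he, hge]; simpa using hA'
    have hg'Y : g' ∈ Y := hfib g₀ hg₀ g' hg' (by rw [show N g₀ = n from hn₀]; exact hnT)
      (by rw [hNg', show N g₀ = n from hn₀])
    have hp := Y.mul_mem hg₀ hg'Y
    have hNp : N (g₀ * g') = v u := by
      have h00 : e (g₀ * g') 0 0 = n * u + (1 - n) := by
        simp only [he, Units.val_mul, Matrix.mul_apply, Fin.sum_univ_two, hge]
        show a * (a ^ q * u) + b * b ^ q = _
        rw [hb, ← mul_assoc, ha]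
      simp only [hN, v, h00, add_pow_q hF, sub_pow_q hF, mul_pow, hnq, h1q]
    simp only [Finset.mem_insert, Finset.mem_singleton]
    rcases hmaps _ (hY hp) with h | h | h
    · exact Or.inl (hNp.symm.trans h)
    · exact Or.inr (Or.inl (hNp.symm.trans h))
    · have h' : N (g₀ * g') ∈ S := Finset.mem_filter.2 ⟨h, _, hp, rfl⟩
      rw [hSn, Finset.mem_singleton] at h'
      exact Or.inr (Or.inr (hNp.symm.trans h'))
  have h2 : U.card ≤ 2 * ({0, 1, n} : Finset F).card := by
    refine Finset.card_le_mul_card_image_of_maps_to hv 2 fun t _ => ?_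
    rcases (U.filter fun u => v u = t).eq_empty_or_nonempty with h | ⟨u₀, hu₀⟩
    · simp [h]
    refine (Finset.card_le_card fun u hu => ?_).trans (Finset.card_le_two (a := u₀) (b := u₀ ^ q))
    simp only [Finset.mem_filter, hU, Finset.mem_univ, true_and] at hu hu₀
    have hkey : n * (1 - n) * ((u - u₀) * (u - u₀ ^ q)) = 0 := by
      have : v u = v u₀ := hu.2.trans hu₀.2.symm
      simp only [v] at this
      linear_combination u * this
        - (n * n * u + n * (1 - n)) * hu.1 + (n * n * u + n * (1 - n)) * hu₀.1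
    have := (mul_eq_zero.1 hkey).resolve_left (mul_ne_zero hn0 (sub_ne_zero.2 (Ne.symm hn1)))
    simpa [sub_eq_zero] using this
  have h3 : ({0, 1, n} : Finset F).card ≤ 3 := Finset.card_le_three
  omega

end Cfsg.Agent.H98.UThree
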