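import Cfsg.Agent.H98.UThree.Blocks

/-!
An overgroup of the monomial group of `SU₃(q)`, `q ≠ 5`, that is not monomial has a non-monomial
element fixing a coordinate axis.
-/

set_option autoImplicit false
set_option linter.style.haveILetI false
set_option linter.unusedSectionVars false
set_option maxHeartbeats 1000000

namespace Cfsg.Agent.H98.UThree

open scoped MatrixGroups Matrix
open Matrix Cfsg Cfsg.Agent.Unitary

variable {F : Type*} [Field F] [Fintype F] {q : ℕ}

/-- A non-monomial element of the group fixing the first axis. -/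
def Star (M : Subgroup (GL (Fin 3) F)) : Prop :=
  ∃ k ∈ M, (k : Matrix (Fin 3) (Fin 3) F) 1 0 = 0 ∧ (k : Matrix (Fin 3) (Fin 3) F) 2 0 = 0 ∧
    ¬ Mono (k : Matrix (Fin 3) (Fin 3) F)

variable {M : Subgroup (GL (Fin 3) F)}

lemma gu_anti2 (hF : Fintype.card F = q ^ 2) {h : GL (Fin 2) F} (hh : h ∈ GU 2 F q)
    (h00 : (h : Matrix (Fin 2) (Fin 2) F) 0 0 = 0) : (h : Matrix (Fin 2) (Fin 2) F) 1 1 = 0 := by
  have r := rel2 hF hh
  have h1 := r.row1
  have h2 := r.col0
  rw [h00, zero_mul, zero_add] at h2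
  rw [h2, add_eq_left, mul_eq_zero] at h1
  exact h1.elim id fun h => (pow_eq_zero_iff'.1 h).1

/-- A column with a zero entry at the top. -/
lemma star_of_zero (hF : Fintype.card F = q ^ 2) (hMG : M ≤ G3 F q)
    (hmono : ∀ g ∈ G3 F q, Mono (g : Matrix (Fin 3) (Fin 3) F) → g ∈ M)
    {a : F} (ha : a * a ^ q = 1) (ha3 : a ^ 3 ≠ 1) (ha6 : a ^ 6 ≠ 1)
    {g : GL (Fin 3) F} (hg : g ∈ M) (h0 : (g : Matrix (Fin 3) (Fin 3) F) 0 0 = 0)
    (hbad : Bad fun k => (g : Matrix (Fin 3) (Fin 3) F) k 0) : Star M := by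
  set G := (g : Matrix (Fin 3) (Fin 3) F) with hG
  set x := (a ^ q) ^ 2 with hx
  have hxa : x * (a * a) = 1 := by rw [hx]; linear_combination (a * a ^ q + 1) * ha
  have hxn : x * x ^ q = 1 := by
    rw [hx, pow_right_comm (a ^ q) 2 q, pow_q_q hF, ← mul_pow, mul_comm (a ^ q), ha, one_pow]
  have hxa' : x * a * a = 1 := by rw [mul_assoc]; exact hxa
  obtain ⟨d, hd, hde⟩ := exists_diag3 hF hxn ha ha hxa'
  have hdM : d ∈ M := hmono d hd (hde ▸ mono_diagonal _)
  have hne1 : x ≠ a := fun h => ha3 (by rw [h] at hxa; linear_combination hxa)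
  have hne2 : x * x ≠ a * a := fun h => ha6 (by linear_combination hxa * (x * (a * a) + 1) - a ^ 4 * h)
  set h := g⁻¹ * d * g
  have hh : h ∈ M := M.mul_mem (M.mul_mem (M.inv_mem hg) hdM) hg
  set H := (h : Matrix (Fin 3) (Fin 3) F) with hH
  have hcomm : ∀ k j, ∑ l, G k l * H l j = (![x, a, a] k) * G k j := by
    intro k j
    have : G * H = diagonal ![x, a, a] * G := by
      rw [hG, hH, ← hde, ← Units.val_mul, ← Units.val_mul]
      congr 1
      simp [h, mul_assoc]
    have h1 := congrFun (congrFun this k) j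
    rwa [Matrix.mul_apply, diagonal_mul] at h1
  have hcol : ∀ k, (![x, a, a] k) * G k 0 = a * G k 0 := by
    intro k
    fin_cases k <;> simp [h0]
  have hH0 : H *ᵥ Pi.single 0 1 = a • Pi.single 0 1 := by
    have hGe : G *ᵥ (H *ᵥ Pi.single 0 1) = G *ᵥ (a • Pi.single 0 1) := by
      rw [mulVec_mulVec, mulVec_smul]
      funext k
      simp only [mulVec_single_one, Matrix.col_apply, Pi.smul_apply, smul_eq_mul, Matrix.mul_apply]
      rw [hcomm, hcol]
    exact Preserves.mulVec_injective hF (mem_GU_iff.1 (hMG hg).1) hGe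
  have hH10 : H 1 0 = 0 := by simpa using congrFun hH0 1
  have hH20 : H 2 0 = 0 := by simpa using congrFun hH0 2
  by_cases hm : Mono H
  swap
  · exact ⟨h, hh, hH10, hH20, hm⟩
  -- the restriction of `h` is diagonal or antidiagonal
  obtain ⟨l, h', hblk⟩ := exists_blk hF (hMG hh).1 hH10 hH20
  have hHe : H = !![(l : F), 0, 0; 0, (h' : Matrix (Fin 2) (Fin 2) F) 0 0, (h' : Matrix (Fin 2) (Fin 2) F) 0 1;
      0, (h' : Matrix (Fin 2) (Fin 2) F) 1 0, (h' : Matrix (Fin 2) (Fin 2) F) 1 1] := by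
    rw [hH, ← hblk, blk_val]
  have hh' : h' ∈ GU 2 F q := ((blk_mem_gu_iff hF l h').1 (hblk ▸ (hMG hh).1)).2
  set a' := (h' : Matrix (Fin 2) (Fin 2) F) 0 0
  set b' := (h' : Matrix (Fin 2) (Fin 2) F) 0 1
  set c' := (h' : Matrix (Fin 2) (Fin 2) F) 1 0
  set d' := (h' : Matrix (Fin 2) (Fin 2) F) 1 1
  have hdet : G.det = 1 := mem_sl3.1 (hMG hg).2
  -- a common lemma on eigen-columns
  have key : ∀ (D₀ D κ₁ κ₂ : F), D₀ ≠ D → G 0 1 * κ₁ = D₀ * G 0 1 → G 0 2 * κ₂ = D₀ * G 0 2 →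
      G 1 1 * κ₁ = D * G 1 1 → G 2 1 * κ₁ = D * G 2 1 → G 1 2 * κ₂ = D * G 1 2 →
      G 2 2 * κ₂ = D * G 2 2 → G 0 1 = 0 ∨ G 0 2 = 0 := by
    intro D₀ D κ₁ κ₂ hD e01 e02 e11 e21 e12 e22
    by_contra hc
    simp only [not_or] at hc
    have k1 : κ₁ = D₀ := mul_left_cancel₀ hc.1 (by rw [e01, mul_comm])
    have k2 : κ₂ = D₀ := mul_left_cancel₀ hc.2 (by rw [e02, mul_comm])
    subst κ₁ κ₂
    have z : ∀ {y : F}, y * D₀ = D * y → y = 0 := fun {y} e =>
      (mul_eq_zero.1 (show y * (D₀ - D) = 0 by linear_combination e)).resolve_right (sub_ne_zero.2 hD)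
    rw [det_fin_three, h0, z e11, z e12, z e21, z e22] at hdet
    simp at hdet
  have hor : G 0 1 = 0 ∨ G 0 2 = 0 := by
    obtain ⟨i, hi⟩ := hm 1
    have e : ∀ k, G k 1 * a' + G k 2 * c' = ![x, a, a] k * G k 1 := fun k => by
      rw [← hcomm k 1, hHe, Fin.sum_univ_three]; simp
    have e' : ∀ k, G k 1 * b' + G k 2 * d' = ![x, a, a] k * G k 2 := fun k => by
      rw [← hcomm k 2, hHe, Fin.sum_univ_three]; simp
    rcases eq_or_ne i 2 with rfl | hi2
    · have ha' : a' = 0 := by simpa [hHe] using hi 1 (by decide)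
      have hd' : d' = 0 := gu_anti2 hF hh' ha'
      simp only [ha', hd', mul_zero, zero_add, add_zero] at e e'
      refine key (x * x) (a * a) (b' * c') (b' * c') hne2 ?_ ?_ ?_ ?_ ?_ ?_
      · have := e 0; have h2 := e' 0
        simp at this h2
        linear_combination c' * h2 + x * this
      · have := e 0; have h2 := e' 0
        simp at this h2
        linear_combination b' * this + x * h2
      · have := e 1; have h2 := e' 1
        simp at this h2
        linear_combination c' * h2 + a * this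
      · have := e 2; have h2 := e' 2
        simp at this h2
        linear_combination c' * h2 + a * this
      · have := e 1; have h2 := e' 1
        simp at this h2
        linear_combination b' * this + a * h2
      · have := e 2; have h2 := e' 2
        simp at this h2
        linear_combination b' * this + a * h2
    · have hc' : c' = 0 := by simpa [hHe] using hi 2 (Ne.symm hi2)
      have hb' : b' = 0 := (rel2 hF hh').c_zero_iff.1 hc'
      simp only [hc', hb', mul_zero, zero_add, add_zero] at e e'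
      exact key x a a' d' hne1 (by simpa using e 0) (by simpa using e' 0) (by simpa using e 1)
        (by simpa using e 2) (by simpa using e' 1) (by simpa using e' 2)
  -- rotate
  have fin : ∀ j j' : Fin 3, j ≠ 0 → j' ≠ 0 → j ≠ j' → G 0 j' = 0 → Star M := by
    intro j j' hj hj' hjj h0j'
    obtain ⟨s, hs, hsm, hsr, -⟩ := exists_swap hF (Ne.symm hj)
    have hk : g * s ∈ M := M.mul_mem hg (hmono s hs hsm)
    have hrow : ∀ k : Fin 3, k ≠ 0 → G k j = 0 := by
      intro k hk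
      have h00 : G 0 j ≠ 0 := by
        intro hz
        have hr := gu_rows hF (hMG hg).1 0 0
        fin_cases j <;> fin_cases j' <;>
          simp [Fin.sum_univ_three, ← hG, h0, zero_pow (q_ne_zero hF)] at hj hj' hjj hz h0j' hr <;>
          simp [hz, h0j', zero_pow (q_ne_zero hF)] at hr
      have hr := gu_rows hF (hMG hg).1 0 k
      rw [if_neg (Ne.symm hk)] at hr
      fin_cases j <;> fin_cases j' <;>
        simp [Fin.sum_univ_three, ← hG, h0, zero_pow (q_ne_zero hF)] at hj hj' hjj h00 h0j' hr <;>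
        simp [h00, h0j', zero_pow (q_ne_zero hF)] at hr <;> assumption
    refine ⟨g * s, hk, ?_, ?_, ?_⟩
    · rw [Units.val_mul, hsr, Equiv.swap_apply_left]
      show -G 1 j = 0
      rw [hrow 1 (by decide), neg_zero]
    · rw [Units.val_mul, hsr, Equiv.swap_apply_left]
      show -G 2 j = 0
      rw [hrow 2 (by decide), neg_zero]
    · refine Bad.not_mono (j := j) fun i => ?_
      obtain ⟨k, hk1, hk2⟩ := hbad i
      refine ⟨k, hk1, ?_⟩
      simp only [Units.val_mul]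
      rw [hsr, Equiv.swap_apply_right, neg_ne_zero]
      exact hk2
  rcases hor with h | h
  · exact fin 2 1 (by decide) (by decide) (by decide) h
  · exact fin 1 2 (by decide) (by decide) (by decide) h

/-- A column with some zero entry. -/
lemma star_of_zero' (hF : Fintype.card F = q ^ 2) (hMG : M ≤ G3 F q)
    (hmono : ∀ g ∈ G3 F q, Mono (g : Matrix (Fin 3) (Fin 3) F) → g ∈ M)
    {a : F} (ha : a * a ^ q = 1) (ha3 : a ^ 3 ≠ 1) (ha6 : a ^ 6 ≠ 1)
    {g : GL (Fin 3) F} (hg : g ∈ M) {i : Fin 3} (h0 : (g : Matrix (Fin 3) (Fin 3) F) i 0 = 0)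
    (hbad : Bad fun k => (g : Matrix (Fin 3) (Fin 3) F) k 0) : Star M := by
  rcases eq_or_ne i 0 with rfl | hi
  · exact star_of_zero hF hMG hmono ha ha3 ha6 hg h0 hbad
  obtain ⟨s, hs, hsm, -, hsl⟩ := exists_swap hF (Ne.symm hi)
  refine star_of_zero hF hMG hmono ha ha3 ha6 (M.mul_mem (hmono s hs hsm) hg) ?_ fun j => ?_
  · rw [Units.val_mul, hsl, Equiv.swap_apply_left, h0, neg_zero]
  · obtain ⟨k, hk1, hk2⟩ := hbad (Equiv.swap 0 i j)
    refine ⟨Equiv.swap 0 i k, fun h => hk1 (by rw [← h, Equiv.swap_apply_self]), ?_⟩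
    simp only [Units.val_mul]
    rw [hsl, Equiv.swap_apply_self, neg_ne_zero]
    exact hk2

/-- A column whose top entry has norm different from one. -/
lemma star_of_norm (hF : Fintype.card F = q ^ 2) (hMG : M ≤ G3 F q)
    (hmono : ∀ g ∈ G3 F q, Mono (g : Matrix (Fin 3) (Fin 3) F) → g ∈ M)
    {a : F} (ha : a * a ^ q = 1) (ha3 : a ^ 3 ≠ 1) (ha6 : a ^ 6 ≠ 1)
    (he : (∀ i, 1 ≤ i → i ≤ 3 → ((a ^ q) ^ 2) ^ i ≠ a ^ i) ∨
      ((2 : F) = 0 ∧ ∀ i, 1 ≤ i → i ≤ 2 → ((a ^ q) ^ 2) ^ i ≠ a ^ i))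
    {g : GL (Fin 3) F} (hg : g ∈ M) (hall : ∀ k, (g : Matrix (Fin 3) (Fin 3) F) k 0 ≠ 0)
    (hn : (g : Matrix (Fin 3) (Fin 3) F) 0 0 * (g : Matrix (Fin 3) (Fin 3) F) 0 0 ^ q ≠ 1) :
    Star M := by
  set G := (g : Matrix (Fin 3) (Fin 3) F) with hG
  set p₀ := G 0 0 with hp0
  set p₁ := G 1 0 with hp1
  set p₂ := G 2 0 with hp2
  have hsum : p₀ * p₀ ^ q + p₁ * p₁ ^ q + p₂ * p₂ ^ q = 1 := by
    simpa [Fin.sum_univ_three] using gu_cols hF (hMG hg).1 0 0
  obtain ⟨s, hs⟩ := exists_norm_eq hF (a := 1 - p₀ * p₀ ^ q) (by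
    rw [sub_pow_q hF, one_pow, norm_pow_q hF])
  have hs0 : s ≠ 0 := by
    rintro rfl
    exact hn (by linear_combination hs)
  have hsq0 : s ^ q ≠ 0 := pow_ne_zero _ hs0
  have h0q : (0 : F) ^ q = 0 := zero_pow (q_ne_zero hF)
  set Pm : Matrix (Fin 3) (Fin 3) F :=
    !![0, 1, 0; -(p₂ ^ q) / s ^ q, 0, p₁ / s; p₁ ^ q / s ^ q, 0, p₂ / s] with hPm
  have hP : Preserves q Pm := by
    rw [preserves_iff_transpose_mul hF]
    ext i j
    fin_cases i <;> fin_cases j <;>
      simp [hPm, Matrix.mul_apply, Fin.sum_univ_three, h0q, div_pow, neg_pow_q hF, pow_q_q hF] <;>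
      field_simp
    · linear_combination hsum - hs
    · ring
    · ring
    · linear_combination hsum - hs
  obtain ⟨P, hPG, hPe⟩ : ∃ P ∈ GU 3 F q, (P : Matrix (Fin 3) (Fin 3) F) = Pm :=
    ⟨_, (toGU hF hP).2, coe_toGU hF hP⟩
  set M' : Subgroup (GL (Fin 3) F) := M.comap (MulAut.conj P).toMonoidHom with hM'
  have hM'mem : ∀ k, k ∈ M' ↔ P * k * P⁻¹ ∈ M := fun k => Iff.rfl
  have hM'G : M' ≤ GU 3 F q := by
    intro k hk
    have := Subgroup.mul_mem _ (Subgroup.mul_mem _ (Subgroup.inv_mem _ hPG) (hMG ((hM'mem k).1 hk)).1) hPG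
    simpa [mul_assoc] using this
  set Y := res M' with hY
  have hYG : Y ≤ GU 2 F q := fun h hh => by
    obtain ⟨l, hl⟩ := mem_res.1 hh
    exact ((blk_mem_gu_iff hF l h).1 (hM'G hl)).2
  set x := (a ^ q) ^ 2 with hx
  have hxa : x * (a * a) = 1 := by rw [hx]; linear_combination (a * a ^ q + 1) * ha
  have hxn : x * x ^ q = 1 := by
    rw [hx, pow_right_comm (a ^ q) 2 q, pow_q_q hF, ← mul_pow, mul_comm (a ^ q), ha, one_pow]
  obtain ⟨d, hd, hde⟩ := exists_diag3 hF hxn ha ha (by rw [mul_assoc]; exact hxa)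
  have hdM : d ∈ M := hmono d hd (hde ▸ mono_diagonal _)
  -- the homology at the first axis
  obtain ⟨t, ht, hte⟩ := exists_gu2_diag hF hxn ha
  have hal : a ≠ 0 := left_ne_zero_of_mul_eq_one ha
  have htY : t ∈ Y := by
    refine mem_res.2 ⟨Units.mk0 a hal, (hM'mem _).2 ?_⟩
    have : P * blk (Units.mk0 a hal, t) = d * P := by
      apply Units.ext
      rw [Units.val_mul, Units.val_mul, blk_val, hPe, hde, hte, hPm]
      ext i j
      fin_cases i <;> fin_cases j <;> simp [Matrix.mul_apply, Fin.sum_univ_three, mul_comm]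
    rw [this, mul_inv_cancel_right]
    exact hdM
  -- the homology at the column
  set m := g * d * g⁻¹
  have hmM : m ∈ M := M.mul_mem (M.mul_mem hg hdM) (M.inv_mem hg)
  set k := P⁻¹ * m * P with hk
  have hkM' : k ∈ M' := (hM'mem k).2 (by simpa [hk, mul_assoc] using hmM)
  set pv : Fin 3 → F := fun l => G l 0
  have hcoord : ∀ (j l : Fin 3), (k : Matrix (Fin 3) (Fin 3) F) l j =
      hermForm 3 F q ((m : Matrix (Fin 3) (Fin 3) F) *ᵥ fun r => Pm r j) (fun r => Pm r l) := by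
    intro j l
    have hcol : ∀ j, (fun r => Pm r j) = (P : Matrix (Fin 3) (Fin 3) F) *ᵥ Pi.single j 1 := fun j => by
      funext r; simp [hPe]
    have : (m : Matrix (Fin 3) (Fin 3) F) *ᵥ ((P : Matrix (Fin 3) (Fin 3) F) *ᵥ Pi.single j 1)
        = (P : Matrix (Fin 3) (Fin 3) F) *ᵥ ((k : Matrix (Fin 3) (Fin 3) F) *ᵥ Pi.single j 1) := by
      rw [mulVec_mulVec, mulVec_mulVec, ← Units.val_mul, ← Units.val_mul]
      simp [hk, mul_assoc]
    rw [hcol, hcol, this, mem_GU_iff.1 hPG, herm_single_right hF, one_pow, mul_one]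
    simp
  have hmv : ∀ v, (m : Matrix (Fin 3) (Fin 3) F) *ᵥ v =
      a • v + ((x - a) * hermForm 3 F q v pv) • pv := fun v =>
    homology_mulVec hF (hMG hg).1 hde v
  have hk0 : ∀ l : Fin 3, l ≠ 0 → (k : Matrix (Fin 3) (Fin 3) F) l 0 = 0 := by
    intro l hl
    have hv0 : hermForm 3 F q (fun r => Pm r 0) pv = 0 := by
      simp only [herm3, pv, ← hp0, ← hp1, ← hp2, hPm]
      simp
      field_simp
      ring
    have hcol : ∀ j, (fun r => Pm r j) = Pm *ᵥ Pi.single j 1 := fun j => by funext r; simp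
    rw [hcoord, hmv, hv0, mul_zero, zero_smul, add_zero, herm_smul_left, hcol 0, hcol l, hP,
      herm_single_single hF, if_neg (Ne.symm hl), mul_zero]
  obtain ⟨l₀, h₀, hblk⟩ := exists_blk hF (hM'G hkM') (hk0 1 (by decide)) (hk0 2 (by decide))
  have h₀Y : h₀ ∈ Y := mem_res.2 ⟨l₀, hblk ▸ hkM'⟩
  have h₀ne : (h₀ : Matrix (Fin 2) (Fin 2) F) 1 0 ≠ 0 := by
    have h21 : (k : Matrix (Fin 3) (Fin 3) F) 2 1 = (h₀ : Matrix (Fin 2) (Fin 2) F) 1 0 := by
      rw [← hblk, blk_val]; simp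
    rw [← h21, hcoord, hmv]
    simp only [herm3, hPm, pv, ← hp0, ← hp1, ← hp2, Pi.add_apply, Pi.smul_apply, smul_eq_mul]
    simp [div_pow, h0q]
    intro h
    field_simp at h
    have hz : (x - a) * p₀ ^ q * (s * s ^ q) = 0 := by
      linear_combination h - (x - a) * p₀ ^ q * (hsum - hs)
    rcases mul_eq_zero.1 hz with h1 | h1
    · rcases mul_eq_zero.1 h1 with h2 | h2
      · exact ha3 (by
          have : x = a := sub_eq_zero.1 h2
          rw [this] at hxa
          linear_combination hxa)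
      · exact hall 0 (pow_eq_zero_iff'.1 h2).1
    · exact (mul_ne_zero hs0 hsq0) h1
  -- the antidiagonal element
  obtain ⟨h, hh, hh00⟩ := exists_antidiag hF hYG htY (by rw [hte]; simp) (by rw [hte]; simpa using he)
    ⟨h₀, h₀Y, h₀ne⟩
  obtain ⟨l, hl⟩ := mem_res.1 hh
  set n := P * blk (l, h) * P⁻¹
  have hnM : n ∈ M := (hM'mem _).1 hl
  have hh10 : (h : Matrix (Fin 2) (Fin 2) F) 1 0 ≠ 0 := fun hz => by
    have := (rel2 hF (hYG hh)).col0
    rw [hh00, hz] at this
    simp at this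
  have hn0 : ∀ r, (n : Matrix (Fin 3) (Fin 3) F) r 0 = Pm r 2 * (h : Matrix (Fin 2) (Fin 2) F) 1 0 := by
    intro r
    have h1 : n * P = P * blk (l, h) := by simp [n, mul_assoc]
    have h2 := congrFun (congrFun (congrArg (fun y : GL (Fin 3) F => (y : Matrix (Fin 3) (Fin 3) F)) h1) r) 1
    simp only [Units.val_mul, Matrix.mul_apply, hPe, blk_val, Fin.sum_univ_three] at h2
    simpa [hPm, hh00] using h2
  refine star_of_zero hF hMG hmono ha ha3 ha6 hnM (by simp [hn0, hPm]) fun i => ?_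
  rcases eq_or_ne i 1 with rfl | hi
  · exact ⟨2, by decide, by simp [hn0, hPm, hall 2, hp2, hs0, hh10]⟩
  · exact ⟨1, Ne.symm hi, by simp [hn0, hPm, hall 1, hp1, hs0, hh10]⟩

end Cfsg.Agent.H98.UThree
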